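import Groth.Agent.Sga4h.EtLim
import Groth.Agent.Hensel.HenselPerm
import Groth.Agent.CalgC.IndEtale
import Groth.Agent.Proet.IndEtale
import Groth.Prelude.Def_Hens2
import Mathlib.AlgebraicGeometry.AffineTransitionLimit

/-!
# Spreading out a morphism from the strict localization to an étale neighbourhood
-/

set_option autoImplicit false
universe u

open CategoryTheory CategoryTheory.Limits AlgebraicGeometry Opposite

namespace K154.Spread

open Groth.Agent Groth.Agent.Sga4h.EtLim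

theorem isIndEtale_of_isLocalization {A : Type u} [CommRing A] (M : Submonoid A) (C : Type u)
    [CommRing C] [Algebra A C] [IsLocalization M C] : EtPBC.IsIndEtale A C := by
  rw [Proet.IndEtale.isIndEtale_iff_factor]
  intro Z _ _ _ g
  obtain ⟨E, a, b, c, ψ, χ, h⟩ := CalgC.IndEtale.isIndEtale_of_isLocalization M C Z g
  exact ⟨E, a, b, ψ, χ, c, h⟩

theorem isIndEtale_of_isStrictHenselization (A R : Type u) [CommRing A] [IsLocalRing A]
    [CommRing R] [IsLocalRing R] [Algebra A R] [IsLocalHom (algebraMap A R)]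
    [Hensel.IsStrictHenselization A R] : EtPBC.IsIndEtale A R := by
  rw [Proet.IndEtale.isIndEtale_iff_factor]
  intro Z _ _ _ g
  obtain ⟨E, a, b, c, ψ, χ, h⟩ := Hensel.HenselPerm.lazardEtale_of_isStrictHenselization A R Z g
  exact ⟨E, a, b, ψ, χ, c, h⟩

/-- The strict localization is a limit of étale neighbourhoods. -/
theorem isEtLim_specOf (X : Scheme.{u}) (x : X) (R : Type u) [CommRing R] [IsLocalRing R]
    [Algebra (X.presheaf.stalk x) R] [IsLocalHom (algebraMap (X.presheaf.stalk x) R)]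
    [Hensel.IsStrictHenselization (X.presheaf.stalk x) R] : IsEtLim (Hens2.specOf X x R) := by
  obtain ⟨W, hW, hxW, -⟩ := TopologicalSpace.Opens.isBasis_iff_nbhd.mp X.isBasis_affineOpens
    (U := ⊤) (x := x) trivial
  have hW : IsAffineOpen W := hW
  let _ : Algebra Γ(X, W) (X.presheaf.stalk x) := (X.presheaf.germ W x hxW).hom.toAlgebra
  let _ : Algebra Γ(X, W) R := ((algebraMap (X.presheaf.stalk x) R).comp
    (algebraMap Γ(X, W) (X.presheaf.stalk x))).toAlgebra
  have htow : IsScalarTower Γ(X, W) (X.presheaf.stalk x) R := .of_algebraMap_eq fun _ => rfl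
  have hloc : IsLocalization.AtPrime (X.presheaf.stalk x) (hW.primeIdealOf ⟨x, hxW⟩).asIdeal :=
    hW.isLocalization_stalk ⟨x, hxW⟩
  have hind : EtPBC.IsIndEtale Γ(X, W) R :=
    Proet.IndEtale.isIndEtale_trans Γ(X, W) (X.presheaf.stalk x) R
      (isIndEtale_of_isLocalization (hW.primeIdealOf ⟨x, hxW⟩).asIdeal.primeCompl _)
      (isIndEtale_of_isStrictHenselization _ _)
  have h := isEtLim_of_isIndEtale hind hW.fromSpec
  have e : Spec.map (CommRingCat.ofHom (algebraMap Γ(X, W) R)) ≫ hW.fromSpec = Hens2.specOf X x R := by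
    have h1 : CommRingCat.ofHom (algebraMap Γ(X, W) R) =
        X.presheaf.germ W x hxW ≫ CommRingCat.ofHom (algebraMap (X.presheaf.stalk x) R) := rfl
    rw [h1, Spec.map_comp, Category.assoc, Hens2.specOf]
    congr 1
    exact hW.fromSpecStalk_eq_fromSpecStalk hxW
  rw [← e]
  exact h

/-- **Spreading out.** -/
theorem exists_nbhd {X' X : Scheme.{u}} {h : X' ⟶ X} (H : IsEtLim h) (x₀ : X') {U V Z : Scheme.{u}}
    (v : V ⟶ U) [LocallyOfFinitePresentation v] (q : Z ⟶ X) [IsAffineHom q] (b : Z ⟶ U)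
    (s : pullback q h ⟶ V) (hs : s ≫ v = pullback.fst q h ≫ b) :
    ∃ (E : Scheme.{u}) (e : E ⟶ X) (_ : Etale e) (y : E), e y = h x₀ ∧
      ∃ s' : pullback q e ⟶ V, s' ≫ v = pullback.fst q e ≫ b := by
  obtain ⟨ι, _, _, _, D, π, hc, h1, h2, h3⟩ := H
  let T : ιᵒᵖ ⥤ Scheme.{u} := D ⋙ Over.forget X
  let τ : ∀ a : ιᵒᵖ, T.obj a ⟶ X := fun a => (D.obj a).hom
  have hτ : ∀ ⦃a b : ιᵒᵖ⦄ (g : a ⟶ b), T.map g ≫ τ b = τ a := fun a b g => Over.w (D.map g)
  let T' := Etcore.PullbackSys.sys T τ hτ q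
  let c' := Etcore.PullbackSys.cone T τ hτ q (Cone.mk X' π) h h3
  have hc' : IsLimit c' := Etcore.PullbackSys.isLimitCone T τ hτ q (Cone.mk X' π) h h3 hc
  have haff : ∀ i, IsAffine (T'.obj i) := fun i => by
    have h4 : IsAffine (T.obj i) := h2 i
    have h5 : IsAffineHom (pullback.snd q (τ i)) :=
      MorphismProperty.of_isPullback (P := @IsAffineHom) (IsPullback.of_hasPullback q (τ i)) ‹_›
    exact @isAffine_of_isAffineHom _ _ (pullback.snd q (τ i)) h5 h4
  let t : T' ⟶ (Functor.const ιᵒᵖ).obj U :=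
    { app := fun i => pullback.fst q (τ i) ≫ b
      naturality := fun i j g => by
        change Etcore.PullbackSys.mapp T τ hτ q g ≫ pullback.fst q (τ j) ≫ b =
          (pullback.fst q (τ i) ≫ b) ≫ 𝟙 _
        rw [Category.comp_id, ← Category.assoc, Etcore.PullbackSys.mapp_fst] }
  obtain ⟨i, g, hg1, hg2⟩ := Scheme.exists_π_app_comp_eq_of_locallyOfFinitePresentation T' t v c' hc' s (by
    ext i
    change Etcore.PullbackSys.proj T τ q (Cone.mk X' π) h h3 i ≫ pullback.fst q (τ i) ≫ b = s ≫ v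
    rw [← Category.assoc, Etcore.PullbackSys.proj_fst, hs])
  refine ⟨T.obj i, τ i, h1 i, π.app i x₀, ?_, g, hg2⟩
  have h4 := congrArg (fun k : X' ⟶ X => k x₀) (h3 i)
  exact h4

end K154.Spread
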