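import Groth.Agent.Ega2.BasSec
import Groth.Agent.PerfB.PushFLF
import Groth.Agent.Dcoh.LocalFree
import Mathlib.AlgebraicGeometry.Morphisms.FlatRank

/-! Rank of `f_* O_Y` and the degree `f.finrank`, for `f` finite locally free. -/

set_option autoImplicit false
universe u
open CategoryTheory CategoryTheory.Limits AlgebraicGeometry Opposite

namespace K154.DegSheaf

open Groth.Agent Groth.Agent.Ega2.BasSec

variable {Y S : Scheme.{u}} (f : Y ⟶ S)

lemma isPullback_fromSpec [IsAffineHom f] {V : S.Opens} (hV : IsAffineOpen V) :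
    IsPullback (hV.preimage f).fromSpec (Spec.map (f.app V)) f hV.fromSpec := by
  apply IsPullback.flip
  apply IsOpenImmersion.isPullback
  · rw [Scheme.Hom.app_eq_appLE]
    exact (IsAffineOpen.SpecMap_appLE_fromSpec f hV (hV.preimage f) le_rfl).symm
  · rw [IsAffineOpen.opensRange_fromSpec, IsAffineOpen.opensRange_fromSpec]

/-- the degree in terms of the algebra of sections over an affine open -/
theorem finrank_eq_rankAtStalk [IsFinite f] [Flat f] {V : S.Opens} (hV : IsAffineOpen V)
    (p : Spec Γ(S, V)) : f.finrank (hV.fromSpec p) = (f.app V).hom.finrank p := by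
  have h1 : IsFinite (Spec.map (f.app V)) :=
    (MorphismProperty.of_isPullback (P := @IsFinite) (isPullback_fromSpec f hV) inferInstance)
  have h2 : Flat (Spec.map (f.app V)) :=
    (MorphismProperty.of_isPullback (P := @Flat) (isPullback_fromSpec f hV) inferInstance)
  rw [← Scheme.Hom.finrank_of_isPullback _ _ _ _ (isPullback_fromSpec f hV),
    Scheme.Hom.finrank_SpecMap_eq_finrank ((IsFinite.SpecMap_iff _).1 h1) (Flat.SpecMap_iff.1 h2)]

/-- a basis of `f_* O_Y` over an affine open has `f.finrank` elements -/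
theorem finrank_of_basis [IsFinite f] [Flat f] {V : S.Opens} (hV : IsAffineOpen V) {m : ℕ}
    (b : Module.Basis (Fin m) Γ(S, V) Γ((Coh.push f).obj (Coh.structureModule Y), V)) (s : S) (hs : s ∈ V) :
    f.finrank s = m := by
  let _ : Algebra Γ(S, V) Γ(Y, f ⁻¹ᵁ V) := (f.app V).hom.toAlgebra
  let b' : Module.Basis (Fin m) Γ(S, V) Γ(Y, f ⁻¹ᵁ V) := b
  obtain ⟨p, rfl⟩ : ∃ p, hV.fromSpec p = s := by
    have : s ∈ Set.range hV.fromSpec := by rw [hV.range_fromSpec]; exact hs
    exact this
  rw [finrank_eq_rankAtStalk f hV p]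
  have : Module.Free Γ(S, V) Γ(Y, f ⁻¹ᵁ V) := Module.Free.of_basis b'
  have hfin : Module.Finite Γ(S, V) Γ(Y, f ⁻¹ᵁ V) := Module.Finite.of_basis b'
  have h3 : (f.app V).hom.finrank p = Module.rankAtStalk (R := Γ(S, V)) Γ(Y, f ⁻¹ᵁ V) p := rfl
  have : Nontrivial Γ(S, V) := p.nontrivial
  rw [h3, Module.rankAtStalk_eq_finrank_of_free]
  simp [Module.finrank_eq_card_basis b']
  rfl

/-- a local basis has `f.finrank` elements -/
theorem finrank_of_isBas [IsFinite f] [Flat f] {U : S.Opens} {m : ℕ}
    {e : Fin m → Γ((Coh.push f).obj (Coh.structureModule Y), U)} (he : IsBas e) (s : S) (hs : s ∈ U) :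
    f.finrank s = m := by
  obtain ⟨V, hV, hsV, hVU⟩ := exists_isAffineOpen_mem_and_subset (x := s) (U := U) hs
  obtain ⟨b, -⟩ := (comb_bijective_iff _).mp (he V hVU)
  exact finrank_of_basis f hV b s hsV

/-- `f_* O_Y` is locally free of rank `n` iff `f` has degree `n` everywhere -/
theorem isFinLocFreeOfRank_push_iff [IsFinite f] [Flat f] [LocallyOfFinitePresentation f] (n : ℕ) :
    FlatMod.IsFinLocFreeOfRank n ((Coh.push f).obj (Coh.structureModule Y)) ↔ ∀ s, f.finrank s = n := by
  constructor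
  · intro h s
    rw [isFinLocFreeOfRank_iff] at h
    obtain ⟨U, e, hs, he⟩ := h s
    exact finrank_of_isBas f he s hs
  · intro h
    have hO : FlatMod.IsFinLocFree (Coh.structureModule Y) :=
      Groth.Agent.Dcoh.LocalFree.isFinLocFree_structureModule
    have h1 : FlatMod.IsFinLocFree ((Coh.push f).obj (Coh.structureModule Y)) :=
      Groth.Agent.PerfB.PushFLF.isFinLocFree_pushforward f hO
    intro s
    obtain ⟨U, m, hs, hiso⟩ := h1 s
    obtain ⟨e, he⟩ := (nonempty_restrict_iso_freeMod_iff _ m U).mp hiso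
    have hm := finrank_of_isBas f he s hs
    rw [h] at hm
    subst hm
    exact ⟨U, hs, hiso⟩

end K154.DegSheaf
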