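import Groth.Agent.Etbase.FLCRep
import Groth.Agent.Etcore.PullRepr
import Groth.Agent.Sga4B.ConstLC
import Groth.Prelude.Def_SGA1t

/-!
# Extending principal covers over a complement, étale locally

Let `U ⊆ X` be open such that locally constant functions on `T ×_X U` extend uniquely to `T` for every étale
`T ⟶ X`.  A principal cover of `U` which étale locally on `X` has a section extends to a finite étale cover of `X`.
-/

set_option autoImplicit false
set_option backward.isDefEq.respectTransparency.types false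
universe u v

open CategoryTheory CategoryTheory.Limits AlgebraicGeometry Opposite

namespace K154.GlobExt

open Groth.Agent.Etbase.EtRep Groth.Agent.Sga4B.ConstLC

/-- The locus where two morphisms to an étale separated scheme over the base agree is open and closed. -/
theorem exists_eqLocus {E X T : Scheme.{u}} (p : E ⟶ X) [Etale p] [IsSeparated p] (a b : T ⟶ E)
    (h : a ≫ p = b ≫ p) :
    ∃ O : Set T, IsClopen O ∧ ∀ {Z : Scheme.{u}} (k : Z ⟶ T), k ≫ a = k ≫ b ↔ ∀ z, k z ∈ O := by
  let c : T ⟶ pullback p p := pullback.lift a b h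
  let w : pullback (pullback.diagonal p) c ⟶ T := pullback.snd _ _
  have hw : w ≫ a = w ≫ b := by
    have h1 : w ≫ c = pullback.fst _ _ ≫ pullback.diagonal p := (pullback.condition).symm
    have h2 : w ≫ a = w ≫ c ≫ pullback.fst p p := by rw [pullback.lift_fst]
    have h3 : w ≫ b = w ≫ c ≫ pullback.snd p p := by rw [pullback.lift_snd]
    rw [h2, h3, ← Category.assoc, ← Category.assoc, h1]
    simp
  have hop : IsOpenImmersion w := inferInstance
  have hcl : IsClosedImmersion w := inferInstance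
  refine ⟨Set.range w, ⟨w.isClosedEmbedding.isClosed_range, w.isOpenEmbedding.isOpen_range⟩, ?_⟩
  intro Z k
  constructor
  · intro hk z
    let l : Z ⟶ pullback (pullback.diagonal p) c :=
      pullback.lift (k ≫ a) k (by
        apply pullback.hom_ext
        · rw [Category.assoc, Category.assoc, Category.assoc, pullback.diagonal_fst, pullback.lift_fst,
            Category.comp_id]
        · rw [Category.assoc, Category.assoc, Category.assoc, pullback.diagonal_snd, pullback.lift_snd,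
            Category.comp_id, hk])
    have hl : l ≫ w = k := pullback.lift_snd _ _ _
    refine ⟨l z, ?_⟩
    rw [← Scheme.Hom.comp_apply, hl]
  · intro hk
    have hr : Set.range k ⊆ Set.range w := by
      rintro _ ⟨z, rfl⟩
      exact hk z
    rw [← IsOpenImmersion.lift_fac w k hr, Category.assoc, Category.assoc, hw]

theorem exists_geomPt {T : Scheme.{u}} (t : T) :
    ∃ (Ω : Type u) (_ : Field Ω) (_ : IsAlgClosed Ω) (ζ : Spec (CommRingCat.of Ω) ⟶ T), ∀ z, ζ z = t := by
  refine ⟨AlgebraicClosure (T.residueField t), inferInstance, inferInstance,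
    Spec.map (CommRingCat.ofHom (algebraMap (T.residueField t) _)) ≫ T.fromSpecResidueField t, fun z => ?_⟩
  rw [Scheme.Hom.comp_apply, Scheme.fromSpecResidueField_apply]

/-- Two lifts to a principal cover differ by a locally constant function to the group. -/
theorem exists_diff {U : Scheme.{u}} {G : Type v} [Group G] (V : FEt.Cat U) (ρ : G →* Aut V)
    (hV : SGA1t.IsPrincipal G V ρ) {T : Scheme.{u}} (a b : T ⟶ V.left) (h : a ≫ V.hom = b ≫ V.hom) :
    ∃ g : LocallyConstant T G, ∀ {Z : Scheme.{u}} (k : Z ⟶ T) (m : G), (∀ z, g (k z) = m) →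
      k ≫ b = k ≫ a ≫ (ρ m).hom.left := by
  have hF : IsFinite V.hom := V.prop.1
  have hE : Etale V.hom := V.prop.2
  have h1 : ∀ m : G, ∃ O : Set T, IsClopen O ∧ ∀ {Z : Scheme.{u}} (k : Z ⟶ T),
      k ≫ a ≫ (ρ m).hom.left = k ≫ b ↔ ∀ z, k z ∈ O := by
    intro m
    refine exists_eqLocus V.hom (a ≫ (ρ m).hom.left) b ?_
    have : (ρ m).hom.left ≫ V.hom = V.hom := Over.w (ρ m).hom.hom
    rw [Category.assoc, this, h]
  choose O hO hk using h1
  have h2 : ∀ t : T, ∃! m : G, t ∈ O m := by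
    intro t
    obtain ⟨Ω, _, _, ζ, hζ⟩ := exists_geomPt t
    obtain ⟨m, hm, hmu⟩ := hV.2 Ω (ζ ≫ a ≫ V.hom) ⟨ζ ≫ a, by rw [Category.assoc]⟩
      ⟨ζ ≫ b, by rw [Category.assoc, h]⟩
    refine ⟨m, ?_, ?_⟩
    · have h3 : ζ ≫ a ≫ (ρ m).hom.left = ζ ≫ b := by
        rw [← Category.assoc]
        exact congrArg Subtype.val hm
      have h4 := (hk m ζ).1 h3 (IsLocalRing.closedPoint Ω)
      rwa [hζ] at h4
    · intro m' hm'
      apply hmu
      apply Subtype.ext
      have h3 := (hk m' ζ).2 (fun z => by rw [hζ]; exact hm')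
      rw [← Category.assoc] at h3
      exact h3
  choose g hg hgu using h2
  refine ⟨⟨g, ?_⟩, ?_⟩
  · intro S
    have h3 : g ⁻¹' S = ⋃ m ∈ S, O m := by
      ext t
      simp only [Set.mem_preimage, Set.mem_iUnion]
      constructor
      · intro ht
        exact ⟨g t, ht, hg t⟩
      · rintro ⟨m, hm, ht⟩
        rw [← hgu t m ht]
        exact hm
    rw [h3]
    exact isOpen_biUnion fun m _ => (hO m).isOpen
  · intro Z k m hm
    refine ((hk m k).2 fun z => ?_).symm
    rw [← hm z]
    exact hg _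

variable {X : Scheme.{u}} (U : X.Opens) (V : FEt.Cat (U : Scheme.{u}))

/-- The étale scheme underlying a finite étale cover. -/
noncomputable def et {U : Scheme.{u}} (V : FEt.Cat U) : U.Etale :=
  have : Etale V.hom := V.prop.2
  Scheme.Etale.mk V.hom

/-- The sheaf `j_* V`. -/
noncomputable abbrev F : (X.Etale)ᵒᵖ ⥤ Type u := (EtCoh.bc U.ι).op ⋙ yoneda.obj (et V)

theorem isSheaf_F : Presieve.IsSheaf X.smallEtaleTopology (F U V) := by
  have := Groth.Agent.Etcore.PullRepr.subcanonical_smallEtale (U : Scheme.{u})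
  have h : Presieve.IsSheaf (U : Scheme.{u}).smallEtaleTopology (yoneda.obj (et V)) :=
    GrothendieckTopology.Subcanonical.isSheaf_of_isRepresentable _
  exact Functor.op_comp_isSheaf_of_isSheaf_type (F := EtCoh.bc U.ι) (J := X.smallEtaleTopology) h

/-- The transition on `T ×_X U`. -/
noncomputable def bm {T T' : X.Etale} (f : T ⟶ T') : pullback T.hom U.ι ⟶ pullback T'.hom U.ι :=
  ((EtCoh.bc U.ι).map f).left

theorem bm_fst {T T' : X.Etale} (f : T ⟶ T') :
    bm U f ≫ pullback.fst T'.hom U.ι = pullback.fst T.hom U.ι ≫ f.left := by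
  dsimp [bm, EtCoh.bc]
  exact pullback.lift_fst _ _ _

theorem bm_snd {T T' : X.Etale} (f : T ⟶ T') :
    bm U f ≫ pullback.snd T'.hom U.ι = pullback.snd T.hom U.ι := by
  dsimp [bm, EtCoh.bc]
  exact pullback.lift_snd _ _ _

variable {U V}

/-- The morphism of schemes underlying a section of `F`. -/
noncomputable def sl {T : X.Etale} (s : (F U V).obj (op T)) : pullback T.hom U.ι ⟶ V.left := s.left

theorem sl_inj {T : X.Etale} {s s' : (F U V).obj (op T)} (h : sl s = sl s') : s = s' :=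
  Groth.Agent.Etbase.RepSheaf.hom_ext h

theorem sl_hom {T : X.Etale} (s : (F U V).obj (op T)) : sl s ≫ V.hom = pullback.snd T.hom U.ι :=
  Over.w s.hom

/-- The section of `F` given by a morphism of schemes. -/
noncomputable def ofSl {T : X.Etale} (s : pullback T.hom U.ι ⟶ V.left) (h : s ≫ V.hom = pullback.snd T.hom U.ι) :
    (F U V).obj (op T) := MorphismProperty.Over.homMk s h trivial

theorem sl_ofSl {T : X.Etale} (s : pullback T.hom U.ι ⟶ V.left) (h : s ≫ V.hom = pullback.snd T.hom U.ι) :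
    sl (ofSl s h) = s := rfl

theorem sl_map {T T' : X.Etale} (f : T ⟶ T') (s : (F U V).obj (op T')) :
    sl ((F U V).map f.op s) = bm U f ≫ sl s := rfl

theorem aut_w {U : Scheme.{u}} {V : FEt.Cat U} (e : Aut V) : e.hom.left ≫ V.hom = V.hom :=
  Over.w e.hom.hom

/-- The action of automorphisms on sections. -/
noncomputable def act {T : X.Etale} (s : (F U V).obj (op T)) (e : Aut V) : (F U V).obj (op T) :=
  ofSl (sl s ≫ e.hom.left) (by rw [Category.assoc, aut_w, sl_hom])

theorem sl_act {T : X.Etale} (s : (F U V).obj (op T)) (e : Aut V) : sl (act s e) = sl s ≫ e.hom.left := rfl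

variable {G : Type v} [Group G] (ρ : G →* Aut V) (hV : SGA1t.IsPrincipal G V ρ)
  (hLC : ∀ T : X.Etale, Function.Bijective (LocallyConstant.comap (Z := G) (cmap (pullback.fst T.hom U.ι))))

include hV hLC in
theorem chart (E : X.Etale) (σ : (F U V).obj (op E)) :
    (∀ (T : X.Etale) (x : T ⟶ E) (_ : T.left) (m m' : G),
        (F U V).map x.op (act σ (ρ m)) = (F U V).map x.op (act σ (ρ m')) → m = m') ∧
      (∀ (T : X.Etale) (x : T ⟶ E) (t : T.left) (s : (F U V).obj (op T)),
        ∃ (m : G) (W : X.Etale) (f : W ⟶ T) (t' : W.left), f.left t' = t ∧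
          (F U V).map f.op s = (F U V).map (f ≫ x).op (act σ (ρ m))) := by
  constructor
  · intro T x t m m' h
    by_contra hne
    have h1 : (LocallyConstant.const T.left m) ≠ LocallyConstant.const T.left m' := by
      intro h2
      exact hne (congrArg (fun k => k t) h2)
    have h2 := (hLC T).1.ne h1
    have h3 : Nonempty ↥(pullback T.hom U.ι) := by
      by_contra h4
      rw [not_nonempty_iff] at h4
      exact h2 (LocallyConstant.ext fun z => h4.elim z)
    obtain ⟨z⟩ := h3
    obtain ⟨Ω, _, _, ζ, hζ⟩ := exists_geomPt z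
    have h4 := congrArg sl h
    rw [sl_map, sl_map, sl_act, sl_act] at h4
    let ω : Spec (CommRingCat.of Ω) ⟶ V.left := ζ ≫ bm U x ≫ sl σ
    obtain ⟨m₀, hm₀, hm₀u⟩ := hV.2 Ω (ω ≫ V.hom) ⟨ω, rfl⟩
      ⟨ω ≫ (ρ m).hom.left, by rw [Category.assoc, aut_w]⟩
    refine hne ((hm₀u m rfl).trans (hm₀u m' ?_).symm)
    apply Subtype.ext
    change ω ≫ (ρ m').hom.left = ω ≫ (ρ m).hom.left
    simp only [ω, Category.assoc]
    rw [h4]
  · intro T x t s
    obtain ⟨g, hg⟩ := exists_diff V ρ hV (bm U x ≫ sl σ) (sl s) (by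
      rw [Category.assoc, sl_hom, bm_snd, sl_hom])
    obtain ⟨h, hh⟩ := (hLC T).2 g
    have hh' : ∀ z, g z = h (pullback.fst T.hom U.ι z) := by
      intro z
      rw [← hh]
      rfl
    let O : T.left.Opens := ⟨h ⁻¹' {h t}, h.isLocallyConstant {h t}⟩
    have : Etale T.hom := T.prop
    let W : X.Etale := Scheme.Etale.mk (O.ι ≫ T.hom)
    let f : W ⟶ T := MorphismProperty.Over.homMk O.ι rfl trivial
    refine ⟨h t, W, f, ⟨t, rfl⟩, rfl, ?_⟩
    apply sl_inj
    have h1 := hg (bm U f) (h t) (by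
      intro z
      have h2 : pullback.fst T.hom U.ι (bm U f z) = O.ι (pullback.fst W.hom U.ι z) := by
        have h3 := congrArg (fun k : pullback W.hom U.ι ⟶ T.left => k z) (bm_fst U f)
        exact h3
      rw [hh', h2]
      exact (pullback.fst W.hom U.ι z).2)
    rw [sl_map, h1, sl_map, sl_act]
    have h4 : bm U (f ≫ x) = bm U f ≫ bm U x := by
      apply pullback.hom_ext
      · rw [bm_fst, Category.assoc, bm_fst, ← Category.assoc, bm_fst, Category.assoc]; rfl
      · rw [bm_snd, Category.assoc, bm_snd, bm_snd]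
    rw [h4]
    simp only [Category.assoc]

section Rep

/-- A scheme étale over `U`, as an étale scheme over `X`. -/
noncomputable def down {T : Scheme.{u}} (h : T ⟶ U) [Etale h] : X.Etale := Scheme.Etale.mk (h ≫ U.ι)

/-- The first projection. -/
noncomputable def p1 (W : X.Etale) : pullback W.hom U.ι ⟶ W.left := pullback.fst W.hom U.ι

/-- The second projection. -/
noncomputable def p2 (W : X.Etale) : pullback W.hom U.ι ⟶ U := pullback.snd W.hom U.ι

/-- Lifts. -/
noncomputable def lft {Z : Scheme.{u}} (W : X.Etale) (a : Z ⟶ W.left) (b : Z ⟶ U) (h : a ≫ W.hom = b ≫ U.ι) :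
    Z ⟶ pullback W.hom U.ι := pullback.lift a b h

theorem lft_p1 {Z : Scheme.{u}} (W : X.Etale) (a : Z ⟶ W.left) (b : Z ⟶ U) (h : a ≫ W.hom = b ≫ U.ι) :
    lft W a b h ≫ p1 W = a := pullback.lift_fst _ _ _

theorem lft_p2 {Z : Scheme.{u}} (W : X.Etale) (a : Z ⟶ W.left) (b : Z ⟶ U) (h : a ≫ W.hom = b ≫ U.ι) :
    lft W a b h ≫ p2 W = b := pullback.lift_snd _ _ _

theorem p_ext {Z : Scheme.{u}} {W : X.Etale} {a b : Z ⟶ pullback W.hom U.ι} (h1 : a ≫ p1 W = b ≫ p1 W)
    (h2 : a ≫ p2 W = b ≫ p2 W) : a = b := pullback.hom_ext h1 h2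

theorem bm_p1 {T T' : X.Etale} (f : T ⟶ T') : bm U f ≫ p1 T' = p1 T ≫ f.left := bm_fst U f

theorem bm_p2 {T T' : X.Etale} (f : T ⟶ T') : bm U f ≫ p2 T' = p2 T := bm_snd U f

/-- The first projection for a scheme over `U`. -/
noncomputable def q1 {T : Scheme.{u}} (h : T ⟶ U) [Etale h] : pullback (down h).hom U.ι ⟶ T := p1 (down h)

noncomputable def δ {T : Scheme.{u}} (h : T ⟶ U) [Etale h] : T ⟶ pullback (down h).hom U.ι :=
  lft (down h) (𝟙 T) h (Category.id_comp _)

theorem δ_q1 {T : Scheme.{u}} (h : T ⟶ U) [Etale h] : δ h ≫ q1 h = 𝟙 T := lft_p1 _ _ _ _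

theorem δ_p2 {T : Scheme.{u}} (h : T ⟶ U) [Etale h] : δ h ≫ p2 (down h) = h := lft_p2 _ _ _ _

theorem q1_h {T : Scheme.{u}} (h : T ⟶ U) [Etale h] : q1 h ≫ h = p2 (down h) := by
  rw [← cancel_mono U.ι, Category.assoc]
  exact pullback.condition (f := (down h).hom) (g := U.ι)

theorem q1_δ {T : Scheme.{u}} (h : T ⟶ U) [Etale h] : q1 h ≫ δ h = 𝟙 _ := by
  apply p_ext
  · rw [Category.assoc, Category.id_comp]
    have h1 : δ h ≫ p1 (down h) = 𝟙 T := δ_q1 h
    refine (congrArg (fun k => q1 h ≫ k) h1).trans ?_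
    exact Category.comp_id _
  · rw [Category.assoc, δ_p2, Category.id_comp]
    exact q1_h h

theorem δ_bm {T : Scheme.{u}} (h : T ⟶ U) [Etale h] {W : X.Etale} (f : down h ⟶ W)
    (f' : T ⟶ W.left) (hf' : f' = f.left) (hw : f' ≫ W.hom = h ≫ U.ι) : δ h ≫ bm U f = lft W f' h hw := by
  apply p_ext
  · rw [Category.assoc, bm_p1, lft_p1, ← Category.assoc]
    have h1 : δ h ≫ p1 (down h) = 𝟙 T := δ_q1 h
    refine (congrArg (fun k => k ≫ f.left) h1).trans ?_
    rw [hf']
    exact Category.id_comp _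
  · rw [Category.assoc, bm_p2, lft_p2, δ_p2]

theorem sl_p2 {T : X.Etale} (s : (F U V).obj (op T)) : sl s ≫ V.hom = p2 T := sl_hom s

theorem isIso_sl {W : X.Etale} {η : (F U V).obj (op W)}
    (hη : ∀ T : X.Etale, Function.Bijective (fun f : T ⟶ W => (F U V).map f.op η)) : IsIso (sl η) := by
  have hE : Etale V.hom := V.prop.2
  have hWe : Etale W.hom := W.prop
  obtain ⟨f, hf⟩ := (hη (down V.hom)).2 (ofSl (q1 V.hom) (q1_h V.hom))
  have hf' : bm U f ≫ sl η = q1 V.hom := by
    have := congrArg sl hf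
    rwa [sl_ofSl] at this
  obtain ⟨f', hff'⟩ : ∃ f' : V.left ⟶ W.left, f' = f.left := ⟨_, rfl⟩
  have hfw : f' ≫ W.hom = V.hom ≫ U.ι := by rw [hff']; exact Over.w f.hom
  let g : V.left ⟶ pullback W.hom U.ι := lft W f' V.hom hfw
  have hg' : δ V.hom ≫ bm U f = g := δ_bm V.hom f f' hff' hfw
  have hg : g ≫ sl η = 𝟙 _ := by
    rw [← hg', Category.assoc, hf', δ_q1]
  have hE2 : Etale (p2 (U := U) W) := inferInstanceAs (Etale (pullback.snd W.hom U.ι))
  have hslf : (sl η ≫ f') ≫ W.hom = p2 (U := U) W ≫ U.ι := by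
    rw [Category.assoc, hfw, ← Category.assoc, sl_p2]
  let a : down (p2 (U := U) W) ⟶ W :=
    MorphismProperty.Over.homMk (sl η ≫ f') hslf trivial
  let b : down (p2 (U := U) W) ⟶ W :=
    MorphismProperty.Over.homMk (p1 W) pullback.condition trivial
  have ha : δ (p2 (U := U) W) ≫ bm U a = sl η ≫ g := by
    rw [δ_bm (p2 (U := U) W) a (sl η ≫ f') rfl hslf]
    apply p_ext
    · rw [lft_p1, Category.assoc, lft_p1]
    · rw [lft_p2, Category.assoc, lft_p2, sl_p2]
  have hb : δ (p2 (U := U) W) ≫ bm U b = 𝟙 _ := by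
    rw [δ_bm (p2 (U := U) W) b (p1 W) rfl pullback.condition]
    apply p_ext
    · rw [lft_p1, Category.id_comp]
    · rw [lft_p2, Category.id_comp]
  have hab : a = b := by
    apply (hη _).1
    apply sl_inj
    rw [sl_map, sl_map]
    have h1 : δ (p2 (U := U) W) ≫ bm U a ≫ sl η = δ (p2 (U := U) W) ≫ bm U b ≫ sl η := by
      rw [← Category.assoc, ha, ← Category.assoc, hb, Category.assoc, hg, Category.id_comp, Category.comp_id]
    have h2 := congrArg (fun k => q1 (p2 (U := U) W) ≫ k) h1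
    simpa only [← Category.assoc, q1_δ, Category.id_comp] using h2
  refine ⟨g, ?_, hg⟩
  rw [← ha, hab, hb]

end Rep

include hV hLC in
/-- **Local to global extension of principal covers.** -/
theorem exists_extension [Finite G]
    (hloc : ∀ x : X, ∃ (E : X.Etale) (y : E.left) (_ : E.hom y = x), Nonempty ((F U V).obj (op E))) :
    ∃ W : FEt.Cat X, Nonempty ((FEt.restrict U.ι).obj W ≅ V) := by
  obtain ⟨e⟩ : Nonempty (Fin (Nat.card G) ≃ G) := ⟨(Finite.equivFin G).symm⟩
  obtain ⟨W, η, hW, hη⟩ := Groth.Agent.Etbase.FLCRep.exists_rep_of_locallyConstant (isSheaf_F U V) (fun x => by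
    obtain ⟨E, y, hy, ⟨σ⟩⟩ := hloc x
    obtain ⟨h1, h2⟩ := chart ρ hV hLC E σ
    refine ⟨E, y, hy, Fin (Nat.card G), inferInstance, fun m => act σ (ρ (e m)), ?_, ?_⟩
    · intro T k t m m' h
      exact e.injective (h1 T k t _ _ h)
    · intro T k t s
      obtain ⟨m, V, f, t', ht', h⟩ := h2 T k t s
      refine ⟨e.symm m, V, f, t', ht', ?_⟩
      have h3 : e (e.symm m) = m := Equiv.apply_symm_apply e m
      change _ = (F U _).map (f ≫ k).op (act σ (ρ (e (e.symm m))))
      rw [h3]
      exact h)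
  have hiso := isIso_sl hη
  have hWe : Etale W.hom := W.prop
  exact ⟨MorphismProperty.Over.mk ⊤ W.hom ⟨hW, hWe⟩, ⟨MorphismProperty.Over.isoMk (@asIso _ _ _ _ (sl η) hiso) (sl_hom η)⟩⟩

end K154.GlobExt
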