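import Groth.Agent.Ega1.LocH684
import Groth.Agent.CurvesC.UnitCoh

/-!
# The top Čech class of a cover by basic opens

If a quasi-compact quasi-separated scheme is covered by `j + 2` affine basic opens `X_{s_0}, …, X_{s_{j+1}}` and
`H^{j+1}(X, O_X) = 0` then `(s_0 ⋯ s_{j+1})^n` lies in the ideal generated by the `s_i^{n+1}`.
-/

set_option autoImplicit false
universe u

open CategoryTheory TopologicalSpace Opposite CategoryTheory.Limits Abelian AlgebraicGeometry

namespace K154.CechPow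

open Groth.Agent.FormalA.HUBasic Groth.Agent.LoccohA.TopCech Groth.Agent.Ega1.QCohLoc
  Groth.Agent.Ega1.LocH684

attribute [local instance 3000] hasSheafify hasExt

variable {X : Scheme.{u}}

theorem mem_basicOpen_prod (S : Finset ℕ) (s : ℕ → Γ(X, ⊤)) (x : X) :
    x ∈ X.basicOpen (∏ i ∈ S, s i) ↔ ∀ i ∈ S, x ∈ X.basicOpen (s i) := by
  classical
  induction S using Finset.induction_on with
  | empty =>
    rw [Finset.prod_empty, X.basicOpen_of_isUnit isUnit_one]
    simp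
  | insert i S hi ih =>
    rw [Finset.prod_insert hi, X.basicOpen_mul]
    simp only [Finset.mem_insert, forall_eq_or_imp, ← ih]
    rfl

/-- Extension of sections after multiplication by a power. -/
theorem exists_ext [CompactSpace X] [QuasiSeparatedSpace X] (f : Γ(X, ⊤)) (W : X.Opens)
    (hW : W = X.basicOpen f) (a : Γ(X, W)) :
    ∃ (N : ℕ) (b : Γ(X, ⊤)), resO (le_top : W ≤ ⊤) b = resO (le_top : W ≤ ⊤) f ^ N * a := by
  subst hW
  exact exists_eq_pow_mul_of_isCompact_of_isQuasiSeparated X ⊤ isCompact_univ isQuasiSeparated_univ f a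

theorem exists_pow_eq_zero [CompactSpace X] (f : Γ(X, ⊤)) (W : X.Opens)
    (hW : W = X.basicOpen f) (a : Γ(X, ⊤)) (ha : resO (le_top : W ≤ ⊤) a = 0) :
    ∃ N : ℕ, f ^ N * a = 0 := by
  subst hW
  exact exists_pow_mul_eq_zero_of_res_basicOpen_eq_zero_of_isCompact X isCompact_univ a f ha

theorem isUnit_resO (f : Γ(X, ⊤)) (W : X.Opens)
    (hW : W = X.basicOpen f) : IsUnit (resO (le_top : W ≤ ⊤) f) := by
  subst hW
  exact RingedSpace.isUnit_res_basicOpen X.toRingedSpace f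

theorem isAffineOpen_prod (S : Finset ℕ) (hS : S.Nonempty) (s : ℕ → Γ(X, ⊤))
    (h : ∀ i ∈ S, IsAffineOpen (X.basicOpen (s i))) : IsAffineOpen (X.basicOpen (∏ i ∈ S, s i)) := by
  classical
  obtain ⟨i, hi⟩ := hS
  rw [← Finset.mul_prod_erase S s hi, X.basicOpen_mul]
  have h1 := (h i hi).basicOpen (resO (le_top : X.basicOpen (s i) ≤ ⊤) (∏ j ∈ S.erase i, s j))
  rw [basicOpen_resO] at h1
  exact h1

theorem gen [CompactSpace X] [QuasiSeparatedSpace X] (j i : ℕ) (hi : i ≤ j + 1) (s : ℕ → Γ(X, ⊤))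
    (W W' : X.Opens) (hle : W ≤ W')
    (hW' : W' = X.basicOpen (∏ k ∈ (Finset.range (j + 2)).erase i, s k)) (a : Γ(X, W')) :
    ∃ N : ℕ, ∀ N' ≥ N, ∃ b : ℕ → Γ(X, ⊤),
      (resO (le_top : W ≤ ⊤) (∏ k ∈ Finset.range (j + 2), s k)) ^ N' * resO hle a =
        ∑ i ∈ Finset.range (j + 2), resO (le_top : W ≤ ⊤) (s i ^ N' * b i) := by
  classical
  obtain ⟨N, b, hb⟩ := exists_ext _ _ hW' a
  refine ⟨N, fun N' hN' => ⟨fun k => if k = i then
    (∏ k ∈ (Finset.range (j + 2)).erase i, s k) ^ (N' - N) * b else 0, ?_⟩⟩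
  have hb' := congrArg (resO hle) hb
  rw [map_mul, map_pow, resO_resO, resO_resO] at hb'
  beta_reduce
  rw [Finset.sum_eq_single_of_mem i (Finset.mem_range.mpr (by omega))]
  · rw [← Finset.mul_prod_erase (Finset.range (j + 2)) s (Finset.mem_range.mpr (by omega : i < j + 2)),
      if_pos rfl, map_mul, map_mul, map_mul, map_pow, map_pow, hb', mul_pow]
    obtain ⟨M, rfl⟩ := Nat.exists_eq_add_of_le' hN'
    rw [Nat.add_sub_cancel, pow_add (resO (le_top : W ≤ ⊤) (∏ k ∈ (Finset.range (j + 2)).erase i, s k))]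
    ring
  · intro k _ hk
    rw [if_neg hk, mul_zero, map_zero]

theorem main [CompactSpace X] [QuasiSeparatedSpace X] (j : ℕ) (s : ℕ → Γ(X, ⊤))
    (haff : ∀ i ≤ j + 1, IsAffineOpen (X.basicOpen (s i)))
    (hcov : ∀ x : X, ∃ i ≤ j + 1, x ∈ X.basicOpen (s i))
    (hH : Subsingleton (Coh.HH X (Coh.structureModule X) (j + 1))) :
    ∃ (n : ℕ) (b : ℕ → Γ(X, ⊤)),
      (∏ i ∈ Finset.range (j + 2), s i) ^ n = ∑ i ∈ Finset.range (j + 2), s i ^ (n + 1) * b i := by
  classical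
  let F := Coh.toAb (Coh.structureModule X)
  let U : ℕ → X.Opens := fun i => X.basicOpen (s i)
  have hO := Groth.Agent.CurvesC.UnitCoh.isQCoh_unit X
  have hinf : ∀ (S : Finset ℕ) (x : X), x ∈ S.inf U ↔ ∀ i ∈ S, x ∈ U i := by
    intro S x
    induction S using Finset.induction_on with
    | empty => simp
    | insert i S hi ih =>
      rw [Finset.inf_insert, Opens.mem_inf, ih]
      simp
  have hac : Acyc F U (j + 1) ⊤ := by
    intro S hS hj q
    refine subsingleton_E _ hO ?_ q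
    have : S.inf U ⊓ ⊤ = X.basicOpen (∏ i ∈ S, s i) := by
      ext x
      rw [inf_top_eq]
      exact (hinf S x).trans (mem_basicOpen_prod S s x).symm
    rw [this]
    exact isAffineOpen_prod S hS s fun i hi => haff i (hj i hi)
  let P : Γ(X, ⊤) := ∏ i ∈ Finset.range (j + 2), s i
  have hI : I U (j + 1) ⊤ = X.basicOpen P := by
    ext x
    refine (mem_I U (j + 1) ⊤ x).trans ((mem_basicOpen_prod _ s x).trans ?_).symm
    simp [U, Nat.lt_succ_iff]
  have hV : V U (j + 1) ⊤ = ⊤ := by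
    rw [eq_top_iff]
    intro x _
    refine (mem_V U (j + 1) ⊤ x).mpr ⟨?_, trivial⟩
    exact hcov x
  have hsub : Subsingleton (E F (j + 1) (V U (j + 1) ⊤)) := by
    rw [hV]
    exact (Groth.Agent.CohqA.SheafH.HEquivHU F (j + 1) (isTerminalTop (α := Opens X))).symm.toEquiv.subsingleton
  let W : X.Opens := I U (j + 1) ⊤
  let r : Γ(X, ⊤) →+* Γ(X, W) := resO (le_top : W ≤ ⊤)
  have hbd : ∀ g : Γ(X, W), g ∈ Bd F U (j + 1) ⊤ := fun g =>
    mem_Bd_of_top_eq_zero hac g (Subsingleton.elim _ _)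
  have hPi : ∀ i ≤ j + 1, P = s i * ∏ k ∈ (Finset.range (j + 2)).erase i, s k := by
    intro i hi
    exact (Finset.mul_prod_erase _ s (Finset.mem_range.mpr (by omega))).symm
  have key : ∀ g : Γ(X, W), ∃ N : ℕ, ∀ N' ≥ N, ∃ b : ℕ → Γ(X, ⊤),
      r P ^ N' * g = ∑ i ∈ Finset.range (j + 2), r (s i ^ N' * b i) := by
    intro g
    refine AddSubgroup.closure_induction (p := fun (g : Γ(X, W)) _ => ∃ N : ℕ, ∀ N' ≥ N, ∃ b : ℕ → Γ(X, ⊤),
      r P ^ N' * g = ∑ i ∈ Finset.range (j + 2), r (s i ^ N' * b i)) ?_ ?_ ?_ ?_ (hbd g)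
    · rintro _ ⟨i, hi, a, rfl⟩
      have hhat : Ihat U (j + 1) i ⊤ = X.basicOpen (∏ k ∈ (Finset.range (j + 2)).erase i, s k) := by
        ext x
        refine (mem_Ihat U (j + 1) i hi ⊤ x).trans ((mem_basicOpen_prod _ s x).trans ?_).symm
        constructor
        · intro h
          refine ⟨fun k hk hki => h k (by
            rw [Finset.mem_erase, Finset.mem_range]
            exact ⟨hki, by omega⟩), trivial⟩
        · rintro ⟨h, -⟩ k hk
          rw [Finset.mem_erase, Finset.mem_range] at hk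
          exact h k (by omega) hk.1
      exact gen j i hi s W _ (I_le_Ihat U (j + 1) i hi ⊤) hhat a
    · refine ⟨0, fun N' _ => ⟨fun _ => 0, ?_⟩⟩
      simp
    · rintro x y _ _ ⟨N, hx⟩ ⟨M, hy⟩
      refine ⟨max N M, fun N' hN' => ?_⟩
      obtain ⟨b, hb⟩ := hx N' ((le_max_left _ _).trans hN')
      obtain ⟨c, hc⟩ := hy N' ((le_max_right _ _).trans hN')
      refine ⟨fun i => b i + c i, ?_⟩
      rw [mul_add, hb, hc, ← Finset.sum_add_distrib]
      refine Finset.sum_congr rfl fun i _ => ?_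
      rw [mul_add, map_add]
    · rintro x _ ⟨N, hx⟩
      refine ⟨N, fun N' hN' => ?_⟩
      obtain ⟨b, hb⟩ := hx N' hN'
      refine ⟨fun i => - b i, ?_⟩
      rw [mul_neg, hb, ← Finset.sum_neg_distrib]
      refine Finset.sum_congr rfl fun i _ => ?_
      rw [mul_neg, map_neg]
  obtain ⟨u, hu⟩ := (isUnit_resO P W hI).exists_right_inv
  obtain ⟨N, hN⟩ := key u
  obtain ⟨b, hb⟩ := hN (N + 1) (Nat.le_succ N)
  have h1 : r (P ^ N - ∑ i ∈ Finset.range (j + 2), s i ^ (N + 1) * b i) = 0 := by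
    rw [map_sub, map_sum, ← hb, pow_succ, mul_assoc]
    erw [hu]
    rw [mul_one, map_pow, sub_self]
  obtain ⟨M, hM⟩ := exists_pow_eq_zero P W hI _ h1
  refine ⟨N + M, fun i => (∏ k ∈ (Finset.range (j + 2)).erase i, s k) ^ M * b i, ?_⟩
  rw [mul_sub, sub_eq_zero] at hM
  change P ^ (N + M) = _
  rw [pow_add, mul_comm, hM, Finset.mul_sum]
  refine Finset.sum_congr rfl fun i hi => ?_
  have hi' : i ≤ j + 1 := by
    have := Finset.mem_range.mp hi
    omega
  rw [hPi i hi', mul_pow]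
  ring

end K154.CechPow
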