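import Mathlib.Algebra.TrivSqZeroExt.Basic
import Mathlib.Algebra.Category.ModuleCat.ChangeOfRings
import Mathlib.LinearAlgebra.TensorProduct.Basic

/-!
# Derivations from isomorphisms of extensions of scalars

`φ θ : B → B[ε]`, `a ↦ a + θ(a) ε` for a derivation `θ` of `B`.  An isomorphism between the extensions of
scalars of a `B`-module `M` along `φ θ` and `φ 0` gives an additive endomorphism `D` of `M` with
`D (a m) = θ(a) m + a D m`.
-/

set_option autoImplicit false
universe u v w

open CategoryTheory TensorProduct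

namespace K154.DerLift

variable {B : Type u} [CommRing B] {C : Type v} [CommRing C]

/-- The extension of scalars of `M` along `φ : B → C = B ⊕ εB`, axiomatically. -/
structure Dec (φ : B →+* C) (ε : C) (M : Type w) [AddCommGroup M] [Module B M]
    (T : Type*) [AddCommGroup T] [Module C T] where
  j : M →+ T
  p : T →+ M
  p' : T →+ M
  j_smul : ∀ (a : B) (m : M), j (a • m) = φ a • j m
  p_smul : ∀ (a : B) (t : T), p (φ a • t) = a • p t
  p'_smul : ∀ (a : B) (t : T), p' (φ a • t) = a • p' t
  p_j : ∀ m, p (j m) = m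
  p'_j : ∀ m, p' (j m) = 0
  p_eps : ∀ t, p (ε • t) = 0
  p'_eps : ∀ t, p' (ε • t) = p t
  dec : ∀ t, t = j (p t) + ε • j (p' t)

/-- The derivation. -/
theorem exists_der {φ₀ φ₁ : B →+* C} {ε : C} {M : Type w} [AddCommGroup M] [Module B M]
    {T₀ T₁ : Type*} [AddCommGroup T₀] [Module C T₀] [AddCommGroup T₁] [Module C T₁]
    (d₀ : Dec φ₀ ε M T₀) (d₁ : Dec φ₁ ε M T₁) (θ : B → B)
    (h : ∀ a, φ₁ a = φ₀ a + ε * φ₀ (θ a)) (Ψ : T₁ ≃ₗ[C] T₀) :
    ∃ D : M →+ M, ∀ (a : B) (m : M), D (a • m) = θ a • m + a • D m := by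
  let α : M →+ M := d₀.p.comp (Ψ.toLinearMap.toAddMonoidHom.comp d₁.j)
  let β : M →+ M := d₀.p'.comp (Ψ.toLinearMap.toAddMonoidHom.comp d₁.j)
  have hα : ∀ m, α m = d₀.p (Ψ (d₁.j m)) := fun _ => rfl
  have hβ : ∀ m, β m = d₀.p' (Ψ (d₁.j m)) := fun _ => rfl
  have hpa : ∀ (a : B) (t : T₀), d₀.p (φ₁ a • t) = a • d₀.p t := by
    intro a t
    rw [h, add_smul, map_add, d₀.p_smul, mul_smul, d₀.p_eps, add_zero]
  have hpb : ∀ (a : B) (t : T₀), d₀.p' (φ₁ a • t) = a • d₀.p' t + θ a • d₀.p t := by
    intro a t
    rw [h, add_smul, map_add, d₀.p'_smul, mul_smul, d₀.p'_eps, d₀.p_smul]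
  have hαs : ∀ (a : B) (m : M), α (a • m) = a • α m := by
    intro a m
    rw [hα, d₁.j_smul, map_smul, hpa, hα]
  have hβs : ∀ (a : B) (m : M), β (a • m) = a • β m + θ a • α m := by
    intro a m
    rw [hβ, d₁.j_smul, map_smul, hpb, hβ, hα]
  have hinj : Function.Injective α := by
    rw [injective_iff_map_eq_zero]
    intro m hm
    have h1 := d₀.dec (Ψ (d₁.j m))
    rw [← hα, ← hβ, hm, map_zero, zero_add] at h1
    have h2 : d₁.j m = ε • Ψ.symm (d₀.j (β m)) := by
      apply Ψ.injective
      rw [map_smul, LinearEquiv.apply_symm_apply]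
      exact h1
    have h3 := congrArg d₁.p h2
    rwa [d₁.p_j, d₁.p_eps] at h3
  have hsurj : Function.Surjective α := by
    intro y
    have h1 := d₁.dec (Ψ.symm (d₀.j y))
    refine ⟨d₁.p (Ψ.symm (d₀.j y)), ?_⟩
    have h2 := congrArg (fun t => d₀.p (Ψ t)) h1
    simp only [map_add, map_smul, LinearEquiv.apply_symm_apply, d₀.p_j, d₀.p_eps, add_zero] at h2
    rw [hα]
    exact h2.symm
  let e : M ≃+ M := AddEquiv.ofBijective α ⟨hinj, hsurj⟩
  have he : ∀ m, α (e.symm m) = m := fun m => e.apply_symm_apply m
  have hes : ∀ (a : B) (m : M), e.symm (a • m) = a • e.symm m := by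
    intro a m
    apply hinj
    rw [he, hαs, he]
  refine ⟨(e.symm : M →+ M).comp β, fun a m => ?_⟩
  change e.symm (β (a • m)) = θ a • m + a • e.symm (β m)
  rw [hβs, map_add, hes, hes, add_comm]
  congr 2
  exact e.symm_apply_apply m

/-- The decomposition for the tensor product. -/
noncomputable def decTensor [Algebra B C] (ε : C) (f s : C →+ B)
    (hf : ∀ a c, f (algebraMap B C a * c) = a * f c) (hs : ∀ a c, s (algebraMap B C a * c) = a * s c)
    (hdec : ∀ c, c = algebraMap B C (f c) + ε * algebraMap B C (s c))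
    (hfe : ∀ c, f (ε * c) = 0) (hse : ∀ c, s (ε * c) = f c) (hf1 : f 1 = 1) (hs1 : s 1 = 0)
    (M : Type w) [AddCommGroup M] [Module B M] :
    Dec (algebraMap B C) ε M (C ⊗[B] M) :=
  let bil (g : C →+ B) (hg : ∀ a c, g (algebraMap B C a * c) = a * g c) : C →ₗ[B] M →ₗ[B] M :=
    LinearMap.mk₂ B (fun c m => g c • m)
      (fun c c' m => by rw [map_add, add_smul])
      (fun a c m => by rw [Algebra.smul_def, hg, mul_smul])
      (fun c m m' => smul_add _ _ _)
      (fun a c m => by rw [smul_comm])
  let P : C ⊗[B] M →ₗ[B] M := TensorProduct.lift (bil f hf)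
  let P' : C ⊗[B] M →ₗ[B] M := TensorProduct.lift (bil s hs)
  have hP : ∀ c m, P (c ⊗ₜ m) = f c • m := fun c m => rfl
  have hP' : ∀ c m, P' (c ⊗ₜ m) = s c • m := fun c m => rfl
  { j := (TensorProduct.mk B C M 1).toAddMonoidHom
    p := P.toAddMonoidHom
    p' := P'.toAddMonoidHom
    j_smul := fun a m => by
      change (1 : C) ⊗ₜ[B] (a • m) = algebraMap B C a • ((1 : C) ⊗ₜ[B] m)
      rw [TensorProduct.tmul_smul, algebraMap_smul]
    p_smul := fun a t => by
      rw [algebraMap_smul]
      exact P.map_smul a t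
    p'_smul := fun a t => by
      rw [algebraMap_smul]
      exact P'.map_smul a t
    p_j := fun m => by
      change P (1 ⊗ₜ m) = m
      rw [hP, hf1, one_smul]
    p'_j := fun m => by
      change P' (1 ⊗ₜ m) = 0
      rw [hP', hs1, zero_smul]
    p_eps := fun t => by
      change P (ε • t) = 0
      induction t using TensorProduct.induction_on with
      | zero => rw [smul_zero, map_zero]
      | tmul c m => rw [TensorProduct.smul_tmul', hP, smul_eq_mul, hfe, zero_smul]
      | add x y hx hy => rw [smul_add, map_add, hx, hy, add_zero]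
    p'_eps := fun t => by
      change P' (ε • t) = P t
      induction t using TensorProduct.induction_on with
      | zero => rw [smul_zero, map_zero, map_zero]
      | tmul c m => rw [TensorProduct.smul_tmul', hP', hP, smul_eq_mul, hse]
      | add x y hx hy => rw [smul_add, map_add, hx, hy, map_add]
    dec := fun t => by
      change t = (1 : C) ⊗ₜ[B] (P t) + ε • ((1 : C) ⊗ₜ[B] (P' t))
      induction t using TensorProduct.induction_on with
      | zero => simp
      | tmul c m =>
        rw [hP, hP', TensorProduct.smul_tmul', smul_eq_mul, mul_one, ← TensorProduct.smul_tmul,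
          ← TensorProduct.smul_tmul, ← TensorProduct.add_tmul, Algebra.smul_def, mul_one,
          Algebra.smul_def, mul_comm _ ε, ← hdec]
      | add x y hx hy =>
        conv_lhs => rw [hx, hy]
        rw [map_add, map_add, TensorProduct.tmul_add, TensorProduct.tmul_add, smul_add]
        abel }

section Phi

open TrivSqZeroExt

variable (θ : B →+ B) (hθ : ∀ a b, θ (a * b) = a * θ b + θ a * b)

/-- `a ↦ a + θ(a) ε`. -/
def phi : B →+* TrivSqZeroExt B B where
  toFun a := inl a + inr (θ a)
  map_one' := by
    have h1 : θ 1 = 0 := by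
      have := hθ 1 1
      rw [mul_one, one_mul, mul_one] at this
      exact left_eq_add.mp this
    rw [h1, inr_zero, add_zero]
    rfl
  map_zero' := by rw [map_zero, inl_zero, inr_zero, add_zero]
  map_add' a b := by rw [map_add, inl_add, inr_add]; abel
  map_mul' a b := by
    ext
    · simp
    · simp [hθ, mul_comm]

theorem phi_apply (a : B) : phi θ hθ a = inl a + inr (θ a) := rfl

/-- The decomposition of the extension of scalars along `phi θ`. -/
noncomputable def decPhi (M : Type u) [AddCommGroup M] [Module B M] :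
    Dec (phi θ hθ) (inr 1 : TrivSqZeroExt B B) M
      ((ModuleCat.extendScalars (phi θ hθ)).obj (ModuleCat.of B M)) :=
  @decTensor B _ (TrivSqZeroExt B B) _ (phi θ hθ).toAlgebra (inr 1)
    { toFun := fun c => c.fst, map_zero' := rfl, map_add' := fun _ _ => rfl }
    { toFun := fun c => c.snd - θ c.fst
      map_zero' := by simp
      map_add' := fun x y => by simp only [snd_add, fst_add, map_add]; abel }
    (fun a c => by
      change (phi θ hθ a * c).fst = a * c.fst
      simp [phi_apply])
    (fun a c => by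
      change (phi θ hθ a * c).snd - θ (phi θ hθ a * c).fst = a * (c.snd - θ c.fst)
      simp [phi_apply, hθ]
      ring)
    (fun c => by
      change c = phi θ hθ c.fst + inr 1 * phi θ hθ (c.snd - θ c.fst)
      ext
      · simp [phi_apply]
      · simp [phi_apply])
    (fun c => by
      change (inr 1 * c : TrivSqZeroExt B B).fst = 0
      simp)
    (fun c => by
      change (inr 1 * c : TrivSqZeroExt B B).snd - θ (inr 1 * c : TrivSqZeroExt B B).fst = c.fst
      simp)
    (by
      change (1 : TrivSqZeroExt B B).fst = 1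
      simp)
    (by
      change (1 : TrivSqZeroExt B B).snd - θ (1 : TrivSqZeroExt B B).fst = 0
      have h1 : θ 1 = 0 := by
        have := hθ 1 1
        rw [mul_one, one_mul, mul_one] at this
        exact left_eq_add.mp this
      simp [h1])
    M _ _

/-- The derivation obtained from an isomorphism of extensions of scalars. -/
theorem exists_der_of_iso (M : Type u) [AddCommGroup M] [Module B M]
    (e : (ModuleCat.extendScalars (phi θ hθ)).obj (ModuleCat.of B M) ≅
      (ModuleCat.extendScalars (phi (0 : B →+ B) (by simp))).obj (ModuleCat.of B M)) :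
    ∃ D : M →+ M, ∀ (a : B) (m : M), D (a • m) = θ a • m + a • D m :=
  exists_der (decPhi (0 : B →+ B) (by simp) M) (decPhi θ hθ M) θ
    (fun a => by
      ext
      · simp [phi_apply]
      · simp [phi_apply]) e.toLinearEquiv

end Phi

end K154.DerLift
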