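import Groth.Agent.CalgB.RegCompletion
import Groth.Agent.Ega41.SepExt
import Groth.Agent.S5158
import Groth.Agent.S1732
import Groth.Agent.S1750
import Mathlib.RingTheory.MvPowerSeries.Derivative
import Mathlib.RingTheory.Flat.FaithfullyFlat.Algebra
import Mathlib.RingTheory.AdicCompletion.LocalRing

/-!
# Power torsion injective modules, and the completion of a regular local ring containing a field
-/

set_option autoImplicit false
universe u

open IsLocalRing
open scoped TensorProduct

namespace K154.InjCpl

/-- A power torsion injective module over a Noetherian local ring is a sum of copies of the hull. -/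
theorem sum_of_injective {A : Type u} [CommRing A] [IsLocalRing A] [IsNoetherianRing A]
    (E : Type u) [AddCommGroup E] [Module A E] (e : ResidueField A →ₗ[A] E)
    (he : InjHull.IsInjectiveHull e) (M : Type u) [AddCommGroup M] [Module A M]
    (hM : LocCoh.IsPowerTorsion (maximalIdeal A) M) (hi : Module.Injective A M) :
    ∃ J : Type u, Nonempty (M ≃ₗ[A] (J →₀ E)) := by
  classical
  let V := Submodule.torsionBySet A M (maximalIdeal A : Set A)
  let iM : Module (ResidueField A) V := Groth.Agent.S1732.modV A M
  have : IsScalarTower A (ResidueField A) V := Groth.Agent.S1732.towerV A M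
  let J := Module.Basis.ofVectorSpaceIndex (ResidueField A) V
  let b := Module.Basis.ofVectorSpace (ResidueField A) V
  let ψ : V →ₗ[A] (J →₀ E) := (Finsupp.mapRange.linearMap e).comp
    (b.repr.toLinearMap.restrictScalars A)
  have hinj := Groth.Agent.S1732.injective_finsupp (A := A) J E he.isInjective
  obtain ⟨φ, hφ⟩ := hinj.out V.subtype V.injective_subtype ψ
  have hψinj : Function.Injective ψ := by
    refine (Finsupp.mapRange_injective e (map_zero e) he.injective).comp b.repr.injective
  have hφinj : Function.Injective φ := by
    rw [← LinearMap.ker_eq_bot]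
    apply Groth.Agent.S1732.exists_socle hM
    intro z hz hz'
    have hzV : z ∈ V := by
      rw [Submodule.mem_torsionBySet_iff]
      exact fun a => hz' a a.2
    have h1 : φ z = ψ ⟨z, hzV⟩ := hφ ⟨z, hzV⟩
    rw [LinearMap.mem_ker.mp hz] at h1
    have h2 : (⟨z, hzV⟩ : V) = 0 := hψinj (by rw [← h1, map_zero])
    exact congrArg Subtype.val h2
  obtain ⟨ρ, hρ⟩ := hi.out φ hφinj LinearMap.id
  have htors : LocCoh.IsPowerTorsion (maximalIdeal A) (J →₀ E) := by
    intro z
    have h1 : ∀ j, ∃ n : ℕ, ∀ a ∈ maximalIdeal A ^ n, a • z j = 0 :=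
      fun j => Groth.Agent.S1750.exists_pow_smul_eq_zero e he.toIsEssentialInj (z j)
    choose n hn using h1
    refine ⟨z.support.sup n, fun a ha => ?_⟩
    ext j
    rw [Finsupp.smul_apply, Finsupp.zero_apply]
    by_cases hj : j ∈ z.support
    · exact hn j a (Ideal.pow_le_pow_right (Finset.le_sup hj) ha)
    · rw [Finsupp.notMem_support_iff.mp hj, smul_zero]
  have hker : LinearMap.ker ρ = ⊥ := by
    apply Groth.Agent.S1732.exists_socle htors
    intro z hz hz'
    have h1 : ∀ j : J, ∃ y : ResidueField A, e y = z j := by
      intro j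
      refine Groth.Agent.S1732.mem_range_of_smul_eq_zero e he.toIsEssentialInj (z j) fun a ha => ?_
      rw [← Finsupp.smul_apply, hz' a ha, Finsupp.zero_apply]
    choose y hy using h1
    let w : J →₀ ResidueField A := Finsupp.onFinset z.support y (fun j hj => by
      rw [Finsupp.mem_support_iff, ← hy]
      intro h
      apply hj
      exact he.injective (by rw [h, map_zero]))
    have hw : Finsupp.mapRange.linearMap e w = z := by
      ext j
      simp [w, hy]
    have h2 := hφ (b.repr.symm w)
    rw [Submodule.subtype_apply] at h2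
    have h3 : φ (b.repr.symm w : V) = z := by
      rw [h2, ← hw]
      simp [ψ]
    have h4 := hρ (b.repr.symm w : V)
    rw [h3, LinearMap.mem_ker.mp hz] at h4
    rw [← h3, ← LinearMap.id_apply (R := A) (b.repr.symm w : M), ← h4, map_zero]
  have hsurj : Function.Surjective φ := by
    intro z
    refine ⟨ρ z, ?_⟩
    have h1 : z - φ (ρ z) ∈ LinearMap.ker ρ := by
      rw [LinearMap.mem_ker, map_sub, hρ, LinearMap.id_apply, sub_self]
    rw [hker, Submodule.mem_bot, sub_eq_zero] at h1
    exact h1.symm
  exact ⟨J, ⟨LinearEquiv.ofBijective φ ⟨hφinj, hsurj⟩⟩⟩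

/-- Coordinates and derivations on the completion of a regular local ring of characteristic zero. -/
theorem exists_char_zero (A : Type u) [CommRing A] [IsRegularLocalRing A] (k : Type u) [Field k] [CharZero k]
    [Algebra k A] :
    ∃ (_ : IsNoetherianRing (AdicCompletion (maximalIdeal A) A)) (n : ℕ)
      (x : Fin n → AdicCompletion (maximalIdeal A) A)
      (θ : Fin n → Derivation k (AdicCompletion (maximalIdeal A) A) (AdicCompletion (maximalIdeal A) A)),
      (∀ i, x i ∈ maximalIdeal (AdicCompletion (maximalIdeal A) A)) ∧
      maximalIdeal (AdicCompletion (maximalIdeal A) A) ≤ Ideal.span (Set.range x) ∧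
      ∀ i j : Fin n, θ i (x j) = if i = j then 1 else 0 := by
  haveI : Algebra.FormallySmooth k (ResidueField A) :=
    Groth.Agent.Ega41.SepExt.formallySmooth_of_perfectField _ _
  obtain ⟨n, e, he⟩ := Groth.Agent.CalgB.RegCompletion.exists_completion_equiv (k := k) (A := A)
  have hN : IsNoetherianRing (AdicCompletion (maximalIdeal A) A) :=
    isNoetherianRing_of_ringEquiv _ e.symm
  have hk : ∀ c : k, e (algebraMap k (AdicCompletion (maximalIdeal A) A) c) =
      MvPowerSeries.C (algebraMap k (ResidueField A) c) := by
    intro c
    rw [IsScalarTower.algebraMap_apply k A (AdicCompletion (maximalIdeal A) A), he]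
    rfl
  let θ : Fin n → Derivation k (AdicCompletion (maximalIdeal A) A) (AdicCompletion (maximalIdeal A) A) :=
    fun i => Derivation.mk'
      { toFun := fun a => e.symm (MvPowerSeries.pderiv (ResidueField A) i (e a))
        map_add' := fun a b => by simp
        map_smul' := fun c a => by
          rw [RingHom.id_apply, Algebra.smul_def, Algebra.smul_def, map_mul, hk, Derivation.leibniz,
            MvPowerSeries.pderiv_C, smul_zero, add_zero, smul_eq_mul, RingEquiv.symm_apply_eq, map_mul, hk,
            RingEquiv.apply_symm_apply] }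
      (fun a b => by
        change e.symm (MvPowerSeries.pderiv (ResidueField A) i (e (a * b))) =
          a • e.symm (MvPowerSeries.pderiv (ResidueField A) i (e b)) +
          b • e.symm (MvPowerSeries.pderiv (ResidueField A) i (e a))
        rw [map_mul, Derivation.leibniz, map_add, smul_eq_mul, smul_eq_mul, map_mul, map_mul,
          RingEquiv.symm_apply_apply, RingEquiv.symm_apply_apply, smul_eq_mul, smul_eq_mul])
  have hmm : (maximalIdeal (MvPowerSeries (Fin n) (ResidueField A))).map e.symm.toRingHom =
      maximalIdeal (AdicCompletion (maximalIdeal A) A) :=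
    IsLocalRing.map_ringEquiv_maximalIdeal e.symm
  refine ⟨hN, n, fun i => e.symm (MvPowerSeries.X i), θ, ?_, ?_, ?_⟩
  · intro i
    rw [← hmm]
    exact Ideal.mem_map_of_mem e.symm.toRingHom (Groth.Agent.S1732.X_mem_maximalIdeal (ResidueField A) n i)
  · rw [← hmm]
    refine (Ideal.map_mono (Groth.Agent.S1732.maximalIdeal_le_span (ResidueField A) n)).trans ?_
    rw [Ideal.map_span, ← Set.range_comp]
    rfl
  · intro i j
    change e.symm (MvPowerSeries.pderiv (ResidueField A) i (e (e.symm (MvPowerSeries.X j)))) = _
    rw [RingEquiv.apply_symm_apply]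
    split_ifs with h
    · rw [h, MvPowerSeries.pderiv_X_self, map_one]
    · rw [MvPowerSeries.pderiv_X_of_ne (Ne.symm h), map_zero]

end K154.InjCpl
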