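import Groth.Agent.Pi1.K154.InjSum
import Groth.Agent.Pi1.K154.DerLift
import Groth.Agent.S0117

/-!
# Derivations of the base act on the cohomology of étale schemes
-/

set_option autoImplicit false
universe u

open CategoryTheory CategoryTheory.Limits AlgebraicGeometry Opposite TopologicalSpace
open scoped TensorProduct

namespace K154.InjDer

/-- Two sections-compatible base changes of an étale scheme to a nilpotent thickening are isomorphic. -/
theorem exists_iso {S T V : Scheme.{u}} (v : V ⟶ S) [Etale v] (s₀ s₁ : T ⟶ S) (i : S ⟶ T)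
    [IsClosedImmersion i] [Surjective i] (h₀ : i ≫ s₀ = 𝟙 S) (h₁ : i ≫ s₁ = 𝟙 S) :
    ∃ f : pullback v s₀ ≅ pullback v s₁, f.hom ≫ pullback.snd v s₁ = pullback.snd v s₀ := by
  let X (s : T ⟶ S) : Over T := Over.mk (pullback.snd v s)
  have hX : ∀ s, Etale (X s).hom := fun s => inferInstanceAs (Etale (pullback.snd v s))
  have key : ∀ s : T ⟶ S, i ≫ s = 𝟙 S → Nonempty ((Over.pullback i).obj (X s) ≅ Over.mk v) := by
    intro s hs
    have h1 : IsPullback (pullback.fst (pullback.snd v s) i ≫ pullback.fst v s)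
        (pullback.snd (pullback.snd v s) i) v (i ≫ s) :=
      (IsPullback.of_hasPullback (pullback.snd v s) i).paste_horiz (IsPullback.of_hasPullback v s)
    rw [hs] at h1
    haveI : IsIso (pullback.fst (pullback.snd v s) i ≫ pullback.fst v s) := h1.isIso_fst_of_isIso
    exact ⟨Over.isoMk (asIso (pullback.fst (pullback.snd v s) i ≫ pullback.fst v s)) (by
      change (pullback.fst (pullback.snd v s) i ≫ pullback.fst v s) ≫ v = pullback.snd (pullback.snd v s) i
      rw [h1.w, Category.comp_id])⟩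
  obtain ⟨e₀⟩ := key s₀ h₀
  obtain ⟨e₁⟩ := key s₁ h₁
  let e := e₀ ≪≫ e₁.symm
  haveI := hX s₀
  haveI := hX s₁
  obtain ⟨f, hf⟩ := (Groth.Agent.S0117.result i (X s₁) (X s₀)).2 e.hom
  obtain ⟨g, hg⟩ := (Groth.Agent.S0117.result i (X s₀) (X s₁)).2 e.inv
  change (Over.pullback i).map f = e.hom at hf
  change (Over.pullback i).map g = e.inv at hg
  have hfg : f ≫ g = 𝟙 _ := by
    apply (Groth.Agent.S0117.result i (X s₀) (X s₀)).1
    change (Over.pullback i).map (f ≫ g) = (Over.pullback i).map (𝟙 _)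
    rw [Functor.map_comp, hf, hg, e.hom_inv_id, CategoryTheory.Functor.map_id]
  have hgf : g ≫ f = 𝟙 _ := by
    apply (Groth.Agent.S0117.result i (X s₁) (X s₁)).1
    change (Over.pullback i).map (g ≫ f) = (Over.pullback i).map (𝟙 _)
    rw [Functor.map_comp, hf, hg, e.inv_hom_id, CategoryTheory.Functor.map_id]
  exact ⟨(Over.forget T).mapIso ⟨f, g, hfg, hgf⟩, Over.w f⟩

section

variable {B : Type u} [CommRing B]

open TrivSqZeroExt

instance surjective_fst : Surjective (Spec.map (CommRingCat.ofHom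
    (fstHom B B B : TrivSqZeroExt B B →ₐ[B] B).toRingHom)) := by
  constructor
  have h := range_comap_of_surjective _
    (fstHom B B B : TrivSqZeroExt B B →ₐ[B] B).toRingHom (fun b => ⟨inl b, rfl⟩)
  have h2 : PrimeSpectrum.zeroLocus
      (RingHom.ker (fstHom B B B : TrivSqZeroExt B B →ₐ[B] B).toRingHom : Set (TrivSqZeroExt B B)) =
      Set.univ := by
    rw [Set.eq_univ_iff_forall]
    intro x y hy
    have hy0 : y.fst = 0 := hy
    have hy2 : y ^ 2 = 0 := by
      rw [pow_two]
      ext
      · simp [hy0]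
      · simp [hy0]
    exact x.2.mem_of_pow_mem 2 (by rw [hy2]; exact x.asIdeal.zero_mem)
  rw [h2] at h
  exact Set.range_eq_univ.mp h

theorem flat_of_dec {C : Type u} [CommRing C] [Algebra B C] (ε : C) (f s : C →+ B)
    (hf : ∀ a c, f (algebraMap B C a * c) = a * f c) (hs : ∀ a c, s (algebraMap B C a * c) = a * s c)
    (hdec : ∀ c, c = algebraMap B C (f c) + ε * algebraMap B C (s c))
    (hf1 : ∀ b b', f (algebraMap B C b + ε * algebraMap B C b') = b)
    (hs1 : ∀ b b', s (algebraMap B C b + ε * algebraMap B C b') = b') : Module.Flat B C := by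
  let e : C ≃ₗ[B] B × B :=
    { toFun := fun c => (f c, s c)
      map_add' := fun x y => by simp
      map_smul' := fun a c => by
        rw [Algebra.smul_def, hf, hs]
        rfl
      invFun := fun y => algebraMap B C y.1 + ε * algebraMap B C y.2
      left_inv := fun c => (hdec c).symm
      right_inv := fun y => Prod.ext (hf1 _ _) (hs1 _ _) }
  exact Module.Flat.of_linearEquiv e

/-- `phi θ` is flat. -/
theorem flat_phi (θ : B →+ B) (hθ : ∀ a b, θ (a * b) = a * θ b + θ a * b) :
    (DerLift.phi θ hθ).Flat :=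
  @flat_of_dec B _ (TrivSqZeroExt B B) _ (DerLift.phi θ hθ).toAlgebra (inr 1)
    { toFun := fun c => c.fst, map_zero' := rfl, map_add' := fun _ _ => rfl }
    { toFun := fun c => c.snd - θ c.fst
      map_zero' := by simp
      map_add' := fun x y => by simp only [snd_add, fst_add, map_add]; abel }
    (fun a c => by
      change (DerLift.phi θ hθ a * c).fst = a * c.fst
      simp [DerLift.phi_apply])
    (fun a c => by
      change (DerLift.phi θ hθ a * c).snd - θ (DerLift.phi θ hθ a * c).fst = a * (c.snd - θ c.fst)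
      simp [DerLift.phi_apply, hθ]
      ring)
    (fun c => by
      change c = DerLift.phi θ hθ c.fst + inr 1 * DerLift.phi θ hθ (c.snd - θ c.fst)
      ext
      · simp [DerLift.phi_apply]
      · simp [DerLift.phi_apply])
    (fun b b' => by
      change (DerLift.phi θ hθ b + inr 1 * DerLift.phi θ hθ b').fst = b
      simp [DerLift.phi_apply])
    (fun b b' => by
      change (DerLift.phi θ hθ b + inr 1 * DerLift.phi θ hθ b').snd -
        θ (DerLift.phi θ hθ b + inr 1 * DerLift.phi θ hθ b').fst = b'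
      simp [DerLift.phi_apply])

/-- Every derivation of the base acts on the cohomology of an étale scheme. -/
theorem exists_derivation (θ : B →+ B) (hθ : ∀ a b, θ (a * b) = a * θ b + θ a * b)
    (V : Scheme.{u}) [V.Over (Spec (CommRingCat.of B))]
    [CompactSpace V] [QuasiSeparatedSpace V] [Etale (V ↘ Spec (CommRingCat.of B))] (i : ℕ) :
    ∃ D : Coh.HH V (Coh.structureModule V) i →+ Coh.HH V (Coh.structureModule V) i,
      ∀ (a : B) (m : Coh.HH V (Coh.structureModule V) i), D (a • m) = θ a • m + a • D m := by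
  let C := TrivSqZeroExt B B
  let φ₁ : B →+* C := DerLift.phi θ hθ
  let φ₀ : B →+* C := DerLift.phi (0 : B →+ B) (by simp)
  let π : C →+* B := (fstHom B B B : TrivSqZeroExt B B →ₐ[B] B).toRingHom
  let s₀ := Spec.map (CommRingCat.ofHom φ₀)
  let s₁ := Spec.map (CommRingCat.ofHom φ₁)
  let ii := Spec.map (CommRingCat.ofHom π)
  have hπ : Function.Surjective π := fun b => ⟨inl b, rfl⟩
  haveI : IsClosedImmersion ii := IsClosedImmersion.spec_of_surjective _ hπ
  haveI : Surjective ii := surjective_fst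
  have h₀ : ii ≫ s₀ = 𝟙 _ := by
    rw [← Spec.map_comp, ← CommRingCat.ofHom_comp]
    have : π.comp φ₀ = RingHom.id B := by
      ext a
      exact show (DerLift.phi (0 : B →+ B) (by simp) a).fst = a by simp [DerLift.phi_apply]
    rw [this]
    exact Spec.map_id _
  have h₁ : ii ≫ s₁ = 𝟙 _ := by
    rw [← Spec.map_comp, ← CommRingCat.ofHom_comp]
    have : π.comp φ₁ = RingHom.id B := by
      ext a
      exact show (DerLift.phi θ hθ a).fst = a by simp [DerLift.phi_apply]
    rw [this]
    exact Spec.map_id _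
  obtain ⟨f, hf⟩ := exists_iso (V ↘ Spec (CommRingCat.of B)) s₀ s₁ ii h₀ h₁
  letI : (pullback (V ↘ Spec (CommRingCat.of B)) s₀).Over (Spec (CommRingCat.of C)) := ⟨pullback.snd _ s₀⟩
  have p₀ : IsPullback (pullback.fst (V ↘ Spec (CommRingCat.of B)) s₀)
      (pullback (V ↘ Spec (CommRingCat.of B)) s₀ ↘ Spec (CommRingCat.of C))
      (V ↘ Spec (CommRingCat.of B)) s₀ := IsPullback.of_hasPullback _ _
  have p₁ : IsPullback (f.hom ≫ pullback.fst (V ↘ Spec (CommRingCat.of B)) s₁)
      (pullback (V ↘ Spec (CommRingCat.of B)) s₀ ↘ Spec (CommRingCat.of C))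
      (V ↘ Spec (CommRingCat.of B)) s₁ := by
    refine (IsPullback.of_hasPullback (V ↘ Spec (CommRingCat.of B)) s₁).of_iso f.symm (Iso.refl _)
      (Iso.refl _) (Iso.refl _) ?_ ?_ ?_ ?_
    · simp
    · rw [Iso.refl_hom, Category.comp_id, Iso.symm_hom, Iso.eq_inv_comp]
      exact hf
    · simp
    · simp
  obtain ⟨e₀⟩ := InjSum.bc φ₀ (flat_phi _ _) V _ _ p₀ i
  obtain ⟨e₁⟩ := InjSum.bc φ₁ (flat_phi _ _) V _ _ p₁ i
  exact DerLift.exists_der_of_iso θ hθ (Coh.HH V (Coh.structureModule V) i) (e₁ ≪≫ e₀.symm)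

end

end K154.InjDer
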