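import Groth.Agent.Pi1.K154.InjTors
import Groth.Agent.Pi1.K154.InjDer
import Groth.Agent.Pi1.K154.InjCpl
import Groth.Agent.S0299
import Groth.Agent.Localalg.Kunz

/-!
# Cohomology of schemes étale over the punctured spectrum of a regular local ring
-/

set_option autoImplicit false
universe u

open CategoryTheory CategoryTheory.Limits AlgebraicGeometry Opposite TopologicalSpace
open scoped TensorProduct

namespace K154.InjMain

/-- Power torsion of the extension of scalars. -/
theorem isPowerTorsion_tensor {A P : Type u} [CommRing A] [IsLocalRing A] [CommRing P] [IsLocalRing P]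
    [Algebra A P] (hP : (IsLocalRing.maximalIdeal A).map (algebraMap A P) = IsLocalRing.maximalIdeal P)
    (M : Type u) [AddCommGroup M] [Module A M] (hM : LocCoh.IsPowerTorsion (IsLocalRing.maximalIdeal A) M) :
    LocCoh.IsPowerTorsion (IsLocalRing.maximalIdeal P) (P ⊗[A] M) := by
  intro z
  induction z using TensorProduct.induction_on with
  | zero => exact ⟨0, fun a _ => smul_zero a⟩
  | tmul c m =>
    obtain ⟨n, hn⟩ := hM m
    refine ⟨n, fun a ha => ?_⟩
    rw [← hP, ← Ideal.map_pow] at ha
    refine Submodule.span_induction (p := fun a _ => a • (c ⊗ₜ[A] m) = 0) ?_ ?_ ?_ ?_ ha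
    · rintro _ ⟨b, hb, rfl⟩
      rw [TensorProduct.smul_tmul', smul_eq_mul, ← Algebra.smul_def, TensorProduct.smul_tmul, hn b hb,
        TensorProduct.tmul_zero]
    · rw [zero_smul]
    · intro a b _ _ ha hb
      rw [add_smul, ha, hb, add_zero]
    · intro r a _ ha
      rw [smul_eq_mul, mul_smul, ha, smul_zero]
  | add x y hx hy =>
    obtain ⟨n, hn⟩ := hx
    obtain ⟨n', hn'⟩ := hy
    refine ⟨max n n', fun a ha => ?_⟩
    rw [smul_add, hn a (Ideal.pow_le_pow_right (le_max_left _ _) ha),
      hn' a (Ideal.pow_le_pow_right (le_max_right _ _) ha), add_zero]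

theorem main (A : Type u) [CommRing A] [IsRegularLocalRing A] (k : Type u) [Field k] [Algebra k A]
    (V : Scheme.{u}) [V.Over (Spec (CommRingCat.of A))]
    [Etale (V ↘ Spec (CommRingCat.of A))] [CompactSpace V] [QuasiSeparatedSpace V]
    (g : V ⟶ (FEt.puncturedSpec A : Scheme.{u})) (hg : g ≫ (FEt.puncturedSpec A).ι = V ↘ Spec (CommRingCat.of A))
    [IsAffineHom g]
    (i : ℕ) (hi : 0 < i) (E : Type u) [AddCommGroup E] [Module A E] (e : IsLocalRing.ResidueField A →ₗ[A] E)
    (he : InjHull.IsInjectiveHull e) :
    ∃ ι : Type u, Nonempty (Coh.HH V (Coh.structureModule V) i ≃ₗ[A] (ι →₀ E)) := by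
  have ht := InjTors.isPowerTorsion g hg i hi
  obtain ⟨p, hp⟩ := CharP.exists k
  rcases CharP.char_is_prime_or_zero k p with hp' | rfl
  · haveI : Fact p.Prime := ⟨hp'⟩
    haveI : CharP A p := charP_of_injective_algebraMap (algebraMap k A).injective p
    exact Groth.Agent.S0338.result p A E e he _ ht
      (InjSum.frob_iso p A (Groth.Agent.Localalg.Kunz.frobenius_flat_of_isRegularLocalRing p A) V i)
  · haveI : CharZero k := CharP.charP_to_charZero k
    obtain ⟨hN, n, x, θ, hx, hspan, hθ⟩ := InjCpl.exists_char_zero A k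
    let P := AdicCompletion (IsLocalRing.maximalIdeal A) A
    haveI hflat : Module.Flat A P := AdicCompletion.flat_of_isNoetherian _
    have hmax : (IsLocalRing.maximalIdeal A).map (algebraMap A P) = IsLocalRing.maximalIdeal P :=
      AdicCompletion.maximalIdeal_eq_map.symm
    let q := Spec.map (CommRingCat.ofHom (algebraMap A P))
    let V' := pullback (V ↘ Spec (CommRingCat.of A)) q
    letI : V'.Over (Spec (CommRingCat.of P)) := ⟨pullback.snd _ q⟩
    haveI : Etale (V' ↘ Spec (CommRingCat.of P)) := inferInstanceAs (Etale (pullback.snd _ q))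
    haveI : CompactSpace V' := by
      haveI : QuasiCompact (V ↘ Spec (CommRingCat.of A)) :=
        (quasiCompact_iff_compactSpace _).mpr inferInstance
      exact (quasiCompact_iff_compactSpace (pullback.snd (V ↘ Spec (CommRingCat.of A)) q)).mp inferInstance
    haveI : QuasiSeparatedSpace V' := by
      haveI : QuasiSeparated (V ↘ Spec (CommRingCat.of A)) := inferInstance
      exact (quasiSeparated_iff_quasiSeparatedSpace (pullback.snd (V ↘ Spec (CommRingCat.of A)) q)).mp
        inferInstance
    obtain ⟨b⟩ := InjSum.bcT (A := A) (B := P) V V' (pullback.fst _ q) (IsPullback.of_hasPullback _ _) i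
    have ht' : LocCoh.IsPowerTorsion (IsLocalRing.maximalIdeal P) (Coh.HH V' (Coh.structureModule V') i) := by
      intro z
      obtain ⟨n, hn⟩ := isPowerTorsion_tensor hmax _ ht (b.symm z)
      refine ⟨n, fun a ha => ?_⟩
      rw [← b.apply_symm_apply (a • z), map_smul, hn a ha, map_zero]
    have hD : ∀ j, ∃ D : Coh.HH V' (Coh.structureModule V') i →+ Coh.HH V' (Coh.structureModule V') i,
        ∀ (a : P) (m : Coh.HH V' (Coh.structureModule V') i), D (a • m) = θ j a • m + a • D m := fun j =>
      InjDer.exists_derivation (θ j : P →+ P) (fun a b => by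
        change θ j (a * b) = _
        rw [Derivation.leibniz, smul_eq_mul, smul_eq_mul, mul_comm b]
        rfl) V' i
    choose D hD using hD
    obtain ⟨E', _, _, e', he'⟩ := Groth.Agent.S0299.result P (IsLocalRing.ResidueField P)
    obtain ⟨J, ⟨c⟩⟩ := Groth.Agent.S1732.core x θ hx hspan hθ E' e' he' _ ht' D hD
    have hinj : Module.Injective P (P ⊗[A] Coh.HH V (Coh.structureModule V) i) :=
      Groth.Agent.Localalg.InjHull.injective_of_equiv
        (Groth.Agent.S1732.injective_finsupp J E' he'.isInjective) (b.trans c)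
    have hinj' : Module.Injective A (P ⊗[A] Coh.HH V (Coh.structureModule V) i) :=
      Groth.Agent.S1750.injective_of_flat A P _ hinj
    have hinj'' : Module.Injective A (Coh.HH V (Coh.structureModule V) i) :=
      Groth.Agent.Localalg.InjHull.injective_of_equiv hinj'
        (LinearEquiv.ofBijective _ (Groth.Agent.S5158.result A _ ht))
    exact InjCpl.sum_of_injective E e he _ ht hinj''

end K154.InjMain
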