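import Groth.Agent.S0034
import Groth.Agent.S0118
import Groth.Agent.S0338
import Groth.Agent.CurvesA.HHMap
import Groth.Agent.EtHull.K991.FrobUnr
import Groth.Agent.FrobSch.K865.RelFrob
import Groth.Agent.CurvesC.UnitCoh

/-!
# Cohomology of schemes étale over a ring: Frobenius and derivation structures

For `V` étale, quasi-compact and quasi-separated over `Spec A` and `M = H^i(V, O_V)`:

* `bc`: flat base change along a ring homomorphism;
* `frob_iso`: if `A` has characteristic `p` and flat Frobenius, then `F^* M ≅ M`;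
* `exists_derivation`: every derivation `θ` of `A` lifts to an additive endomorphism `D` of `M` with
  `D (a m) = θ(a) m + a D m`.
-/

set_option autoImplicit false
universe u

open CategoryTheory CategoryTheory.Limits AlgebraicGeometry Opposite TopologicalSpace

namespace K154.InjSum

section BC

variable {A B : Type u} [CommRing A] [CommRing B]

/-- Flat base change along a ring homomorphism. -/
theorem bc (φ : A →+* B) (hφ : φ.Flat)
    (X X' : Scheme.{u}) [X.Over (Spec (CommRingCat.of A))] [X'.Over (Spec (CommRingCat.of B))]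
    [CompactSpace X] [QuasiSeparatedSpace X] (g' : X' ⟶ X)
    (h : IsPullback g' (X' ↘ Spec (CommRingCat.of B)) (X ↘ Spec (CommRingCat.of A))
      (Spec.map (CommRingCat.ofHom φ))) (i : ℕ) :
    Nonempty ((ModuleCat.extendScalars φ).obj (ModuleCat.of A (Coh.HH X (Coh.structureModule X) i)) ≅
      ModuleCat.of B (Coh.HH X' (Coh.structureModule X') i)) := by
  letI := φ.toAlgebra
  haveI : Module.Flat A B := hφ
  haveI := Groth.Agent.CurvesC.UnitCoh.isQCoh_unit X
  obtain ⟨e⟩ := Groth.Agent.S0034.result A B X X' g' h (Coh.structureModule X) i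
  let e' := e.trans (Groth.Agent.CurvesA.HHMap.equivOver B (Groth.Agent.CurvesA.HHMap.pullbackUnit g') i)
  exact ⟨LinearEquiv.toModuleIso e'⟩

open scoped TensorProduct in
/-- Flat base change for an algebra. -/
theorem bcT [Algebra A B] [Module.Flat A B]
    (X X' : Scheme.{u}) [X.Over (Spec (CommRingCat.of A))] [X'.Over (Spec (CommRingCat.of B))]
    [CompactSpace X] [QuasiSeparatedSpace X] (g' : X' ⟶ X)
    (h : IsPullback g' (X' ↘ Spec (CommRingCat.of B)) (X ↘ Spec (CommRingCat.of A))
      (Spec.map (CommRingCat.ofHom (algebraMap A B)))) (i : ℕ) :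
    Nonempty (B ⊗[A] Coh.HH X (Coh.structureModule X) i ≃ₗ[B] Coh.HH X' (Coh.structureModule X') i) := by
  haveI := Groth.Agent.CurvesC.UnitCoh.isQCoh_unit X
  obtain ⟨e⟩ := Groth.Agent.S0034.result A B X X' g' h (Coh.structureModule X) i
  exact ⟨e.trans (Groth.Agent.CurvesA.HHMap.equivOver B (Groth.Agent.CurvesA.HHMap.pullbackUnit g') i)⟩

end BC

/-- In characteristic `p`, the cohomology of an étale scheme is isomorphic to its Frobenius twist. -/
theorem frob_iso (p : ℕ) [Fact p.Prime] (A : Type u) [CommRing A] [CharP A p]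
    (hF : (frobenius A p).Flat) (V : Scheme.{u}) [V.Over (Spec (CommRingCat.of A))]
    [CompactSpace V] [QuasiSeparatedSpace V] [Etale (V ↘ Spec (CommRingCat.of A))] (i : ℕ) :
    Nonempty ((ModuleCat.extendScalars (frobenius A p)).obj
      (ModuleCat.of A (Coh.HH V (Coh.structureModule V) i)) ≅
      ModuleCat.of A (Coh.HH V (Coh.structureModule V) i)) := by
  haveI hc : FrobSch.IsCharP (Spec (CommRingCat.of A)) p := inferInstance
  haveI hV : FrobSch.IsCharP V p := FrobSch.IsCharP.of_hom (V ↘ Spec (CommRingCat.of A)) p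
  have h1 := K991.FrobUnr.isIso_relFrob p (V ↘ Spec (CommRingCat.of A))
  have h2 := (K865.RelFrob.isIso_relFrob_iff (V ↘ Spec (CommRingCat.of A))).mp h1
  have h3 : FrobSch.frob (Spec (CommRingCat.of A)) p = Spec.map (CommRingCat.ofHom (frobenius A p)) := by
    rw [K991.FrobUnr.frob_spec (CommRingCat.of A) p (CharP.cast_eq_zero A p)]
    rfl
  rw [h3] at h2
  exact bc (frobenius A p) hF V V _ h2 i

end K154.InjSum
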