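import Groth.Agent.Pi1.K154.InjSum
import Groth.Agent.S0007
import Groth.Prelude.Def_Wider
import Groth.Prelude.Def_FEt

/-!
# Torsion of the cohomology of schemes affine over the punctured spectrum
-/

set_option autoImplicit false
universe u

open CategoryTheory CategoryTheory.Limits AlgebraicGeometry Opposite TopologicalSpace
open scoped TensorProduct

namespace K154.InjTors

variable {A : Type u} [CommRing A] [IsLocalRing A] {V : Scheme.{u}}

/-- The base change of `V` to a ring over which the maximal ideal generates the unit ideal. -/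
theorem exists_isPullback (f : V ⟶ Spec (CommRingCat.of A))
    (g : V ⟶ (FEt.puncturedSpec A : Scheme.{u})) (hg : g ≫ (FEt.puncturedSpec A).ι = f)
    {B : Type u} [CommRing B] (φ : A →+* B)
    (hφ : ∀ x : PrimeSpectrum B, Ideal.comap φ x.asIdeal ≠ IsLocalRing.maximalIdeal A) :
    ∃ (l : Spec (CommRingCat.of B) ⟶ (FEt.puncturedSpec A : Scheme.{u})),
      l ≫ (FEt.puncturedSpec A).ι = Spec.map (CommRingCat.ofHom φ) ∧
      IsPullback (pullback.fst g l) (pullback.snd g l) f (Spec.map (CommRingCat.ofHom φ)) := by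
  have hr : Set.range (Spec.map (CommRingCat.ofHom φ)) ⊆ Set.range (FEt.puncturedSpec A).ι := by
    rw [Scheme.Opens.range_ι]
    rintro _ ⟨x, rfl⟩
    intro h
    exact hφ x (congrArg PrimeSpectrum.asIdeal h)
  refine ⟨IsOpenImmersion.lift (FEt.puncturedSpec A).ι (Spec.map (CommRingCat.ofHom φ)) hr,
    IsOpenImmersion.lift_fac _ _ _, ?_⟩
  set l := IsOpenImmersion.lift (FEt.puncturedSpec A).ι (Spec.map (CommRingCat.ofHom φ)) hr
  have hl : l ≫ (FEt.puncturedSpec A).ι = Spec.map (CommRingCat.ofHom φ) :=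
    IsOpenImmersion.lift_fac _ _ _
  rw [← hg, ← hl]
  exact ⟨⟨by rw [pullback.condition_assoc]⟩, ⟨pullbackIsPullbackOfCompMono g l (FEt.puncturedSpec A).ι⟩⟩

/-- A scheme affine over the punctured spectrum is separated. -/
theorem isSeparated (f : V ⟶ Spec (CommRingCat.of A))
    (g : V ⟶ (FEt.puncturedSpec A : Scheme.{u})) (hg : g ≫ (FEt.puncturedSpec A).ι = f) [IsAffineHom g] :
    IsSeparated f := by
  rw [← hg]
  infer_instance

variable [V.Over (Spec (CommRingCat.of A))]

/-- The positive degree cohomology vanishes after inverting the maximal ideal. -/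
theorem subsingleton_tensor [CompactSpace V] [QuasiSeparatedSpace V]
    (g : V ⟶ (FEt.puncturedSpec A : Scheme.{u})) (hg : g ≫ (FEt.puncturedSpec A).ι = V ↘ Spec (CommRingCat.of A))
    [IsAffineHom g] {B : Type u} [CommRing B] [Algebra A B] [Module.Flat A B]
    (hφ : ∀ x : PrimeSpectrum B, Ideal.comap (algebraMap A B) x.asIdeal ≠ IsLocalRing.maximalIdeal A)
    (i : ℕ) (hi : 0 < i) :
    Subsingleton (B ⊗[A] Coh.HH V (Coh.structureModule V) i) := by
  obtain ⟨l, hl, h⟩ := exists_isPullback (V ↘ Spec (CommRingCat.of A)) g hg (algebraMap A B) hφ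
  letI : (pullback g l).Over (Spec (CommRingCat.of B)) := ⟨pullback.snd g l⟩
  haveI : IsAffine (pullback g l) := isAffine_of_isAffineHom (pullback.snd g l)
  haveI := Groth.Agent.CurvesC.UnitCoh.isQCoh_unit V
  haveI := Groth.Agent.CurvesC.UnitCoh.isQCoh_unit (pullback g l)
  obtain ⟨e⟩ := Groth.Agent.S0034.result A B V (pullback g l) (pullback.fst g l) h (Coh.structureModule V) i
  let e' := e.trans (Groth.Agent.CurvesA.HHMap.equivOver B
    (Groth.Agent.CurvesA.HHMap.pullbackUnit (pullback.fst g l)) i)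
  haveI := Groth.Agent.S0007.result (pullback g l) (Coh.structureModule (pullback g l)) i hi
  exact e'.toEquiv.subsingleton

/-- The positive degree cohomology of a scheme affine over the punctured spectrum is torsion. -/
theorem isPowerTorsion [IsNoetherianRing A] [CompactSpace V] [QuasiSeparatedSpace V]
    (g : V ⟶ (FEt.puncturedSpec A : Scheme.{u})) (hg : g ≫ (FEt.puncturedSpec A).ι = V ↘ Spec (CommRingCat.of A))
    [IsAffineHom g] (i : ℕ) (hi : 0 < i) :
    LocCoh.IsPowerTorsion (IsLocalRing.maximalIdeal A) (Coh.HH V (Coh.structureModule V) i) := by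
  have key : ∀ a ∈ IsLocalRing.maximalIdeal A, ∀ m : Coh.HH V (Coh.structureModule V) i,
      ∃ n : ℕ, a ^ n • m = 0 := by
    intro a ha m
    haveI := subsingleton_tensor (A := A) (V := V) g hg (B := Localization.Away a) (by
      intro x hx
      have h1 : a ∈ Ideal.comap (algebraMap A (Localization.Away a)) x.asIdeal := by rw [hx]; exact ha
      exact x.2.ne_top (Ideal.eq_top_of_isUnit_mem _ h1 (IsLocalization.Away.algebraMap_isUnit a))) i hi
    have h0 : (1 : Localization.Away a) ⊗ₜ[A] m = 0 := Subsingleton.elim _ _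
    have h1 := (IsLocalizedModule.eq_zero_iff (Submonoid.powers a)
      (TensorProduct.mk A (Localization.Away a) (Coh.HH V (Coh.structureModule V) i) 1)).mp h0
    obtain ⟨⟨_, n, rfl⟩, hc⟩ := h1
    exact ⟨n, hc⟩
  intro m
  have hfg : (IsLocalRing.maximalIdeal A).FG := IsNoetherian.noetherian _
  have hrad : IsLocalRing.maximalIdeal A ≤ (Submodule.span A {m}).annihilator.radical := by
    intro a ha
    obtain ⟨n, hn⟩ := key a ha m
    refine ⟨n, ?_⟩
    rw [Submodule.mem_annihilator_span_singleton]
    exact hn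
  obtain ⟨n, hn⟩ := Ideal.exists_pow_le_of_le_radical_of_fg hrad hfg
  refine ⟨n, fun a ha => ?_⟩
  have h1 := hn ha
  rwa [Submodule.mem_annihilator_span_singleton] at h1

end K154.InjTors
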