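import Groth.Agent.Pi1.H415.Glue
import Groth.Agent.Pi1.H415.Radicial
import Groth.Agent.Pi1.H415.KumTower
import Groth.Agent.Pi1.H394.Mu
import Groth.Agent.Pi1.H394.KummerAlg
import Groth.Agent.Pi1.H414.Chi
import Groth.Agent.Pi1.H408.TamePoint

/-!
# Principal covers of the strictly local complement of a relative strict normal crossings divisor become
trivial on the Kummer cover of level the order of the group
-/

set_option autoImplicit false
universe u v

open CategoryTheory CategoryTheory.Limits AlgebraicGeometry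

namespace K154.KumLoc

open Groth.Agent.Pi1 Groth.Agent.Pi1.H415 Groth.Agent.Pi1.H415.Stmts Groth.Agent.Pi1.H415.SplitBC
  Groth.Agent.Pi1.H415.Glue Groth.Agent.Pi1.H415.KumBC Groth.Agent.Pi1.H415.Local
  Groth.Agent.Pi1.H390 Groth.Agent.Pi1.H414

section Tame

set_option backward.isDefEq.respectTransparency false

/-- An open immersion `j : U → X`, a principal cover of `U`, and a morphism `a : Z → X`. -/
theorem isTamelyRamified_of_openImmersion {U X Z : Scheme.{u}} (j : U ⟶ X) [IsOpenImmersion j]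
    (G : Type v) [Group G] [Finite G] (P : FEt.Cat U) (ρ : G →* Aut P) (hP : SGA1t.IsPrincipal G P ρ)
    (a : Z ⟶ X) (y : Z) [IsDomain (Z.presheaf.stalk y)]
    (hdvr : IsDiscreteValuationRing (Z.presheaf.stalk y))
    (w : ↥(pullback (P.hom ≫ j) a)) (h : (pullback.snd (P.hom ≫ j) a) w ⤳ y)
    (hne : (pullback.snd (P.hom ≫ j) a) w ≠ y) (hunit : IsUnit ((Nat.card G : ℕ) : Z.residueField y)) :
    EtRam.IsTamelyRamified (Z.presheaf.stalk y)
      (((pullback.snd (P.hom ≫ j) a).residueFieldMap w).hom.comp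
        ((Z.residue _).hom.comp (Z.presheaf.stalkSpecializes h).hom)) := by
  obtain ⟨η, hη⟩ : ∃ η : Spec (Z.residueField ((pullback.snd (P.hom ≫ j) a) w)) ⟶ U,
      η ≫ j = Z.fromSpecResidueField _ ≫ a := by
    refine ⟨IsOpenImmersion.lift j _ ?_, IsOpenImmersion.lift_fac _ _ _⟩
    rintro _ ⟨z, rfl⟩
    rw [Scheme.Hom.comp_apply, Scheme.fromSpecResidueField_apply]
    have h1 : (P.hom ≫ j) ((pullback.fst (P.hom ≫ j) a) w) = a ((pullback.snd (P.hom ≫ j) a) w) := by
      rw [← Scheme.Hom.comp_apply, ← Scheme.Hom.comp_apply, pullback.condition]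
    rw [← h1, Scheme.Hom.comp_apply]
    exact Set.mem_range_self _
  have e1 : ((pullback (P.hom ≫ j) a).fromSpecResidueField w ≫ pullback.fst (P.hom ≫ j) a) ≫ P.hom =
      Spec.map ((pullback.snd (P.hom ≫ j) a).residueFieldMap w) ≫ η := by
    rw [← cancel_mono j, Category.assoc, Category.assoc, Category.assoc, hη,
      Scheme.Hom.SpecMap_residueFieldMap_fromSpecResidueField_assoc, pullback.condition]
  have e2 : pullback.fst P.hom η ≫ P.hom ≫ j =
      (pullback.snd P.hom η ≫ Z.fromSpecResidueField ((pullback.snd (P.hom ≫ j) a) w)) ≫ a := by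
    rw [pullback.condition_assoc, hη, Category.assoc]
  have htk : pullback.lift _ _ e1 ≫ pullback.lift _ _ e2 =
      (pullback (P.hom ≫ j) a).fromSpecResidueField w := by
    apply pullback.hom_ext
    · rw [Category.assoc, pullback.lift_fst, pullback.lift_fst]
    · rw [Category.assoc, pullback.lift_snd, pullback.lift_snd_assoc,
        Scheme.Hom.SpecMap_residueFieldMap_fromSpecResidueField]
  have hsurj : SurjectiveOnStalks (pullback.lift _ _ e1) := by
    have : SurjectiveOnStalks (pullback.lift _ _ e1 ≫ pullback.lift _ _ e2) := by rw [htk]; infer_instance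
    exact SurjectiveOnStalks.of_comp _ (pullback.lift _ _ e2)
  exact H408.TamePoint.isTamelyRamified G P ρ hP (pullback.snd (P.hom ≫ j) a) w η
    (pullback.lift _ _ e1) (pullback.lift_snd _ _ _) hsurj y hdvr h hne hunit

/-- A principal cover of order invertible on `X` is tame. -/
theorem isRelTame {X S : Scheme.{u}} (f : X ⟶ S) {r : ℕ} (φ : Fin r → Γ(X, ⊤))
    (C : Type v) [Group C] [Finite C] (hC : ∀ x : X, IsUnit ((Nat.card C : ℕ) : X.residueField x))
    (P : FEt.Cat (SGA1t.compl φ : Scheme.{u})) (ρ : C →* Aut P) (hP : SGA1t.IsPrincipal C P ρ) :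
    SGA1t.IsRelTame f φ P := by
  intro Ω _ _ σ _ y _ hdvr w h hne
  refine isTamelyRamified_of_openImmersion (SGA1t.compl φ).ι C P ρ hP (pullback.fst f σ) y hdvr w h hne ?_
  have h1 := (hC ((pullback.fst f σ) y)).map ((pullback.fst f σ).residueFieldMap y).hom
  rwa [map_natCast] at h1

end Tame

/-- **Descent of a section** along a finite flat cover. -/
theorem exists_factor {U V Km Kn : Scheme.{u}} (v : V ⟶ U) [IsFinite v] [Etale v] (k : Km ⟶ U)
    (q : Kn ⟶ Km) [IsFinite q] [Flat q] [LocallyOfFinitePresentation q] [Surjective q]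
    [ConnectedSpace Km] (Ω : Type u) [Field Ω] [IsAlgClosed Ω]
    (y : Spec (CommRingCat.of Ω) ⟶ Km) (s : Kn ⟶ V) (hs : s ≫ v = q ≫ k)
    (hrad : ∀ a b : Spec (CommRingCat.of Ω) ⟶ Kn, a ≫ q = y → b ≫ q = y → a ≫ s = b ≫ s) :
    ∃ s₀ : Km ⟶ V, s₀ ≫ v = k := by
  let w : pullback v k ⟶ Km := pullback.snd v k
  let s' : Kn ⟶ pullback v k := pullback.lift s q hs
  have hs'w : s' ≫ w = q := pullback.lift_snd _ _ _
  have i1 : IsFinite (s' ≫ w) := by rw [hs'w]; infer_instance
  have i2 : Flat (s' ≫ w) := by rw [hs'w]; infer_instance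
  have i3 : LocallyOfFinitePresentation (s' ≫ w) := by rw [hs'w]; infer_instance
  have i4 : IsFinite s' := IsFinite.of_comp s' w
  have i5 : Flat s' := Radicial.flat_of_comp s' w
  have i6 : LocallyOfFinitePresentation s' := Radicial.locallyOfFinitePresentation_of_comp s' w
  have hcl : IsClopen (Set.range s') := ⟨s'.isClosedMap.isClosed_range, s'.isOpenMap.isOpen_range⟩
  let Z : (pullback v k).Opens := ⟨Set.range s', hcl.isOpen⟩
  have hrange : Set.range Z.ι = Set.range s' := by simp [Z]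
  have i7 : IsClosedImmersion Z.ι := by
    apply IsClosedImmersion.of_isPreimmersion
    rw [hrange]
    exact hcl.isClosed
  let s'' : Kn ⟶ (Z : Scheme.{u}) := IsOpenImmersion.lift Z.ι s' hrange.ge
  have hs'' : s'' ≫ Z.ι = s' := IsOpenImmersion.lift_fac _ _ _
  have i8 : IsFinite (s'' ≫ Z.ι) := by rw [hs'']; infer_instance
  have i9 : IsFinite s'' := IsFinite.of_comp s'' Z.ι
  have i10 : Surjective s'' := by
    refine ⟨fun p => ?_⟩
    have : Z.ι p ∈ Set.range s' := by rw [← hrange]; exact ⟨p, rfl⟩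
    obtain ⟨c, hc⟩ := this
    refine ⟨c, Z.ι.isOpenEmbedding.injective ?_⟩
    rw [← Scheme.Hom.comp_apply, hs'', hc]
  let ζ : (Z : Scheme.{u}) ⟶ Km := Z.ι ≫ w
  have hq : s'' ≫ ζ = q := by rw [← Category.assoc, hs'', hs'w]
  have hζ : IsIso ζ := by
    apply Radicial.isIso_of_unique_point ζ Ω y
    obtain ⟨a₀, ha₀⟩ := Radicial.exists_lift Ω q y
    refine ⟨a₀ ≫ s'', ?_, ?_⟩
    · change (a₀ ≫ s'') ≫ ζ = y
      rw [Category.assoc, hq, ha₀]
    · intro σ hσ
      obtain ⟨a₁, ha₁⟩ := Radicial.exists_lift Ω s'' σ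
      have h1 : a₁ ≫ q = y := by rw [← hq, ← Category.assoc, ha₁]; exact hσ
      have h2 : a₁ ≫ s = a₀ ≫ s := hrad _ _ h1 ha₀
      rw [← ha₁, ← cancel_mono Z.ι, Category.assoc, Category.assoc, hs'']
      apply pullback.hom_ext
      · rw [Category.assoc, Category.assoc, pullback.lift_fst]; exact h2
      · rw [Category.assoc, Category.assoc, pullback.lift_snd]; exact h1.trans ha₀.symm
  refine ⟨inv ζ ≫ Z.ι ≫ pullback.fst v k, ?_⟩
  rw [Category.assoc, Category.assoc, pullback.condition, IsIso.inv_comp_eq]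
  simp only [ζ, w, Category.assoc]

section Level

variable {R : Type u} [CommRing R] {ι : Type} [Finite ι] (a : ι → R) (n m : ι → ℕ)
  (U : (Spec (CommRingCat.of R)).Opens)

/-- `K_{nm} → K_n` over an open of the base. -/
theorem exists_q (hm : ∀ i, 1 ≤ m i) :
    ∃ q : (↑(str R a (fun i => n i * m i) ⁻¹ᵁ U) : Scheme.{u}) ⟶ ↑(str R a n ⁻¹ᵁ U),
      q ≫ (str R a n ∣_ U) = str R a (fun i => n i * m i) ∣_ U ∧
      q ≫ (str R a n ⁻¹ᵁ U).ι = (str R a (fun i => n i * m i) ⁻¹ᵁ U).ι ≫ KumTower.q a n m ∧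
      IsFinite q ∧ Flat q ∧ LocallyOfFinitePresentation q ∧ Surjective q := by
  have h1 := KumTower.isFinite_q a n m hm
  have h2 := KumTower.flat_q a n m hm
  have h3 := KumTower.lfp_q a n m
  have h4 := KumTower.surjective_q a n m hm
  have sqN := (isPullback_morphismRestrict (str R a (fun i => n i * m i)) U).flip
  have sqn := (isPullback_morphismRestrict (str R a n) U).flip
  have hw : ((str R a (fun i => n i * m i) ⁻¹ᵁ U).ι ≫ KumTower.q a n m) ≫ str R a n =
      (str R a (fun i => n i * m i) ∣_ U) ≫ U.ι := by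
    rw [Category.assoc, KumTower.q_str, morphismRestrict_ι]
  have hpb : IsPullback (str R a (fun i => n i * m i) ⁻¹ᵁ U).ι (sqn.lift _ _ hw) (KumTower.q a n m)
      (str R a n ⁻¹ᵁ U).ι := by
    refine IsPullback.of_bot (v₂₁ := str R a n ∣_ U) (v₂₂ := str R a n) (h₃₁ := U.ι) ?_ ?_ sqn
    · rw [sqn.lift_snd, KumTower.q_str]; exact sqN
    · rw [sqn.lift_fst]
  exact ⟨sqn.lift _ _ hw, sqn.lift_snd _ _ _, sqn.lift_fst _ _ _,
    MorphismProperty.of_isPullback hpb h1, MorphismProperty.of_isPullback hpb h2,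
    MorphismProperty.of_isPullback hpb h3, MorphismProperty.of_isPullback hpb h4⟩

end Level

theorem exists_geomPt (T : Scheme.{u}) [Nonempty T] :
    ∃ (Ω : Type u) (_ : Field Ω) (_ : IsAlgClosed Ω), Nonempty (Spec (CommRingCat.of Ω) ⟶ T) := by
  let x : T := Classical.arbitrary _
  exact ⟨AlgebraicClosure (T.residueField x), inferInstance, inferInstance,
    ⟨Spec.map (CommRingCat.ofHom (algebraMap (T.residueField x) _)) ≫ T.fromSpecResidueField x⟩⟩

section Main

variable {X S : Scheme.{u}} (f : X ⟶ S) {r : ℕ} (φ : Fin r → Γ(X, ⊤))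
    (hD : SGA1t.IsRelSNC f φ) (x : X) (hx : Nonempty (SGA1t.vanishingAt φ x))
    (R : Type u) [CommRing R] [IsLocalRing R] [Algebra (X.presheaf.stalk x) R]
    [IsLocalHom (algebraMap (X.presheaf.stalk x) R)] [Hensel.IsStrictHenselization (X.presheaf.stalk x) R]

omit [Hensel.IsStrictHenselization (X.presheaf.stalk x) R] in
/-- The kernel of `μ_{nm} → μ_n` acts through `n`-th powers. -/
theorem exists_twist [HenselianLocalRing R] [IsSepClosed (IsLocalRing.ResidueField R)]
    {ι : Type} (a : ι → R) (n m : ι → ℕ)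
    (hn : ∀ i, 1 ≤ n i) (hu : ∀ i, IsUnit ((n i * m i : ℕ) : R)) (Ω : Type u) [Field Ω] [IsAlgClosed Ω]
    (α β : SGA1t.kummer R a (fun i => n i * m i) →+* Ω) (hα : ∀ i, α (algebraMap R _ (a i)) ≠ 0)
    (hbase : ∀ c : R, α (algebraMap R _ c) = β (algebraMap R _ c))
    (hT : ∀ i, α (KumBasic.T a (fun i => n i * m i) i) ^ m i = β (KumBasic.T a (fun i => n i * m i) i) ^ m i) :
    ∃ δ : (i : ι) → ↥(rootsOfUnity (n i * m i) R),
      α.comp (SGA1t.kummerTwist R a (fun i => n i * m i) (fun i => δ i ^ n i)) = β := by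
  have hT0 : ∀ i, α (KumBasic.T a (fun i => n i * m i) i) ≠ 0 := by
    intro i h0
    apply hα i
    rw [← KumBasic.T_pow, map_pow, h0]
    apply zero_pow
    intro h1
    have h2 := hu i
    rw [h1, Nat.cast_zero] at h2
    exact not_isUnit_zero h2
  have h1 : ∀ i, ∃ v : Ω, v ^ n i = β (KumBasic.T a (fun i => n i * m i) i) / α (KumBasic.T a (fun i => n i * m i) i) :=
    fun i => IsAlgClosed.exists_pow_nat_eq _ (hn i)
  choose v hv using h1
  have h2 : ∀ i, v i ^ (n i * m i) = 1 := by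
    intro i
    rw [pow_mul, hv, div_pow, hT i]
    refine div_self ?_
    rw [← hT i]
    exact pow_ne_zero _ (hT0 i)
  have h3 : ∀ i, ∃ δ : R, δ ^ (n i * m i) = 1 ∧ (α.comp (algebraMap R _)) δ = v i := fun i =>
    H394.Mu.exists_root (α.comp (algebraMap R _)) (n i * m i) (hu i) (v i) (h2 i)
  choose δ hδ1 hδ2 using h3
  have hδ0 : ∀ i, n i * m i ≠ 0 := by
    intro i h1
    have h2 := hu i
    rw [h1, Nat.cast_zero] at h2
    exact not_isUnit_zero h2
  have hne : ∀ i, NeZero (n i * m i) := fun i => ⟨hδ0 i⟩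
  let d : (i : ι) → ↥(rootsOfUnity (n i * m i) R) := fun i =>
    rootsOfUnity.mkOfPowEq (n := n i * m i) (δ i) (hδ1 i)
  have hd : ∀ i, ((d i : Rˣ) : R) = δ i := fun i => rootsOfUnity.coe_mkOfPowEq (hδ1 i)
  refine ⟨d, ?_⟩
  apply KumBasic.ringHom_ext
  · ext c
    refine Eq.trans ?_ (hbase c)
    exact congrArg α (H394.KummerAlg.kummerTwist_algebraMap a (fun i => n i * m i) (fun i => d i ^ n i) c)
  · intro i
    have e1 : SGA1t.kummerTwist R a (fun i => n i * m i) (fun i => d i ^ n i) (KumBasic.T a (fun i => n i * m i) i) =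
        algebraMap R _ ((((d i ^ n i : ↥(rootsOfUnity (n i * m i) R)) : Rˣ) : R)) * KumBasic.T a (fun i => n i * m i) i :=
      H394.KummerAlg.kummerTwist_T a (fun i => n i * m i) (fun i => d i ^ n i) i
    change α (SGA1t.kummerTwist R a (fun i => n i * m i) (fun i => d i ^ n i) (KumBasic.T a (fun i => n i * m i) i)) = _
    rw [e1, map_mul]
    have e2 : (((d i ^ n i : ↥(rootsOfUnity (n i * m i) R)) : Rˣ) : R) = δ i ^ n i := by
      rw [← hd i]; rfl
    rw [e2, map_pow, map_pow]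
    have e3 : α (algebraMap R _ (δ i)) = v i := hδ2 i
    rw [e3, hv, div_mul_cancel₀ _ (hT0 i)]

include hD hx in
/-- **Exponent.** A principal `G`-cover of the strictly local complement is trivial on the Kummer cover of level
`|G|`. -/
theorem exists_section (hA : Abh.{u}) (hK : KumGal.{u}) (G : Type v) [Group G] [Finite G]
    (hG : IsUnit ((Nat.card G : ℕ) : X.residueField x))
    (V : FEt.Cat (cmpl φ x R : Scheme.{u})) (ρ : G →* Aut V) (hV : SGA1t.IsPrincipal G V ρ) :
    ∃ s : (↑(str R (eqs φ x R) (fun _ => Nat.card G) ⁻¹ᵁ cmpl φ x R) : Scheme.{u}) ⟶ V.left,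
      s ≫ V.hom = str R (eqs φ x R) (fun _ => Nat.card G) ∣_ cmpl φ x R := by
  have hR : HenselianLocalRing R := Hensel.IsStrictHenselization.henselian (X.presheaf.stalk x)
  have hRs : IsSepClosed (IsLocalRing.ResidueField R) :=
    (Hensel.IsStrictHenselization.isSepClosure (R := X.presheaf.stalk x) (S := R)).1
  have hGR : IsUnit ((Nat.card G : ℕ) : R) := isUnit_natCast x R _ hG
  have htame : SGA1t.IsRelTame (Hens2.specOf X x R ≫ f) (fun i => (Hens2.specOf X x R).appTop (φ i)) V := by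
    refine isRelTame _ _ G (fun y => ?_) V ρ hV
    have h1 := hGR.map (((Spec (CommRingCat.of R)).presheaf.germ ⊤ y trivial ≫
      (Spec (CommRingCat.of R)).residue y).hom.comp (Scheme.ΓSpecIso (CommRingCat.of R)).inv.hom)
    rwa [map_natCast] at h1
  obtain ⟨m, hm, hmu, hs⟩ := Glue.exists_split f φ hD x R hA hx V htame
  let n : SGA1t.vanishingAt φ x → ℕ := fun _ => Nat.card G
  have hn : ∀ i, 1 ≤ n i := fun _ => Nat.card_pos
  have hN : ∀ i, 1 ≤ n i * m i := fun i => Nat.mul_pos (hn i) (hm i)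
  have hNu : ∀ i, IsUnit ((n i * m i : ℕ) : X.residueField x) := fun i => by
    rw [Nat.cast_mul]; exact hG.mul (hmu i)
  have hNR : ∀ i, IsUnit ((n i * m i : ℕ) : R) := fun i => isUnit_natCast _ R _ (hNu i)
  obtain ⟨l, hl⟩ := exists_factor_restrict (eqs φ x R) m (fun i => n i * m i)
    (fun i => Dvd.intro_left _ rfl) (cmpl φ x R)
  have hsN : PtSplit V.hom (str R (eqs φ x R) (fun i => n i * m i) ∣_ cmpl φ x R) := by
    rw [← hl]; exact hs.comp l
  have hF : IsFinite (str R (eqs φ x R) (fun i => n i * m i) ∣_ cmpl φ x R) :=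
    isFinite_restrict (eqs φ x R) _ hN _
  have hE : Etale (str R (eqs φ x R) (fun i => n i * m i) ∣_ cmpl φ x R) :=
    Glue.etale_restrict φ x R _ hN hNu
  have hSu : Surjective (str R (eqs φ x R) (fun i => n i * m i) ∣_ cmpl φ x R) :=
    surjective_restrict (eqs φ x R) _ hN _
  let K : FEt.Cat (cmpl φ x R : Scheme.{u}) :=
    MorphismProperty.Over.mk ⊤ (str R (eqs φ x R) (fun i => n i * m i) ∣_ cmpl φ x R) ⟨hF, hE⟩
  obtain ⟨hgal, θ, hθ⟩ := @hK X S f r φ hD x hx R _ _ _ _ _ (fun i => n i * m i) hN hNu hF hE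
  have hKc : ConnectedSpace K.left := hgal.1
  have hKc' : ConnectedSpace ↥(↑((str R (eqs φ x R) fun i => n i * m i) ⁻¹ᵁ cmpl φ x R) : Scheme.{u}) := hKc
  have hUc : ConnectedSpace ↥(cmpl φ x R : Scheme.{u}) :=
    hSu.surj.connectedSpace (str R (eqs φ x R) (fun i => n i * m i) ∣_ cmpl φ x R).continuous
  obtain ⟨s, hs1⟩ : ∃ s : K.left ⟶ V.left, s ≫ V.hom = K.hom := by
    let y : K.left := Classical.arbitrary _
    obtain ⟨t, ht⟩ := hV.1 (K.hom y)
    obtain ⟨s, hs1, -⟩ := exists_mem_range V.hom _ hsN t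
    exact ⟨s, hs1⟩
  let s' : K ⟶ V := MorphismProperty.Over.homMk s hs1
  let θ' : ((i : SGA1t.vanishingAt φ x) → ↥(rootsOfUnity (n i * m i) R)) →* Aut K := θ.toMonoidHom
  obtain ⟨χ, hχ⟩ := Chi.exists_chi θ' ρ hV s'
  obtain ⟨q, hq1, hq2, hq3, hq4, hq5, hq6⟩ := exists_q (eqs φ x R) n m (cmpl φ x R) hm
  have hKn : ConnectedSpace ↥(↑(str R (eqs φ x R) n ⁻¹ᵁ cmpl φ x R) : Scheme.{u}) :=
    Glue.connected f φ hD x R hK hx n hn (fun _ => hG)
  obtain ⟨Ω, _, _, ⟨y⟩⟩ := exists_geomPt (↑(str R (eqs φ x R) n ⁻¹ᵁ cmpl φ x R) : Scheme.{u})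
  refine exists_factor V.hom (str R (eqs φ x R) n ∣_ cmpl φ x R) q Ω y s (hs1.trans hq1.symm) ?_
  intro a b ha hb
  obtain ⟨α, hα⟩ := Spec.map_surjective (a ≫ (str R (eqs φ x R) (fun i => n i * m i) ⁻¹ᵁ cmpl φ x R).ι)
  obtain ⟨β, hβ⟩ := Spec.map_surjective (b ≫ (str R (eqs φ x R) (fun i => n i * m i) ⁻¹ᵁ cmpl φ x R).ι)
  have hab : Spec.map α ≫ KumTower.q (eqs φ x R) n m = Spec.map β ≫ KumTower.q (eqs φ x R) n m := by
    rw [hα, hβ, Category.assoc, Category.assoc, ← hq2, reassoc_of% ha, reassoc_of% hb]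
  have hab' : ∀ c, α.hom (KumTower.tr (eqs φ x R) n m c) = β.hom (KumTower.tr (eqs φ x R) n m c) := by
    intro c
    rw [KumTower.q, ← Spec.map_comp, ← Spec.map_comp] at hab
    exact congrArg (fun k => k.hom c) (Spec.map_injective hab)
  have hα0 : ∀ i, α.hom (algebraMap R _ (eqs φ x R i)) ≠ 0 := by
    intro i h0
    let p : Spec (CommRingCat.of Ω) := IsLocalRing.closedPoint Ω
    have h1 : (str R (eqs φ x R) (fun i => n i * m i)) (Spec.map α p) ∈ cmpl φ x R := by
      rw [hα, Scheme.Hom.comp_apply]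
      exact (a p).2
    have h2 := compl_specOf_le x R φ i.1 h1
    apply h2
    change α.hom (algebraMap R _ (eqs φ x R i)) ∈ IsLocalRing.maximalIdeal Ω
    rw [h0]
    exact Ideal.zero_mem _
  obtain ⟨δ, hδ⟩ := exists_twist R (eqs φ x R) n m hn hNR Ω α.hom β.hom hα0
    (fun c => by
      have h1 := hab' (algebraMap R _ c)
      rwa [AlgHom.commutes] at h1)
    (fun i => by
      have h1 := hab' (KumBasic.T (eqs φ x R) n i)
      rwa [KumTower.tr_T, map_pow, map_pow] at h1)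
  have hχ1 : χ (fun i => δ i ^ n i) = 1 := by
    have h1 : (fun i => δ i ^ n i) = δ ^ Nat.card G := rfl
    rw [h1, map_pow, pow_card_eq_one']
  let γ : (i : SGA1t.vanishingAt φ x) → ↥(rootsOfUnity (n i * m i) R) := fun i => δ i ^ n i
  obtain ⟨tw, htw⟩ : ∃ tw : (↑(str R (eqs φ x R) (fun i => n i * m i) ⁻¹ᵁ cmpl φ x R) : Scheme.{u}) ⟶
      (↑(str R (eqs φ x R) (fun i => n i * m i) ⁻¹ᵁ cmpl φ x R) : Scheme.{u}), tw = (θ γ).hom.left := ⟨_, rfl⟩
  have hθγ : tw ≫ (str R (eqs φ x R) (fun i => n i * m i) ⁻¹ᵁ cmpl φ x R).ι =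
      (str R (eqs φ x R) (fun i => n i * m i) ⁻¹ᵁ cmpl φ x R).ι ≫
        Spec.map (CommRingCat.ofHom (SGA1t.kummerTwist R (eqs φ x R) (fun i => n i * m i) γ)) := by
    rw [htw]
    exact hθ γ
  have hb' : b = a ≫ tw := by
    rw [← cancel_mono (str R (eqs φ x R) (fun i => n i * m i) ⁻¹ᵁ cmpl φ x R).ι, Category.assoc, hθγ,
      ← Category.assoc, ← hα, ← hβ, ← Spec.map_comp]
    congr 1
    exact CommRingCat.hom_ext hδ.symm
  have hfin : tw ≫ s = s := by
    have h1 := congrArg (fun k => k.left) (hχ γ)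
    rw [hχ1, map_one] at h1
    refine Eq.trans ?_ (h1.trans (Category.comp_id s))
    rw [htw]
    rfl
  rw [hb', Category.assoc, hfin]

end Main

end K154.KumLoc
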