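import Groth.Agent.Pi1.H404.Chart
import Mathlib.AlgebraicGeometry.Morphisms.Etale

/-!
# Adjoining an `n`-th root of a global function
-/

set_option autoImplicit false
universe u

open CategoryTheory CategoryTheory.Limits AlgebraicGeometry

namespace K154.RootCov

open Groth.Agent.Pi1.H404

/-- `p : X' ⟶ X` adjoins an `n`-th root `z` of `t`. -/
structure IsRoot {X X' : Scheme.{u}} (p : X' ⟶ X) (t : Γ(X, ⊤)) (n : ℕ) (z : Γ(X', ⊤)) : Prop where
  pow : z ^ n = p.appTop t
  univ : ∀ {P : Scheme.{u}} (a : P ⟶ X) (y : Γ(P, ⊤)), y ^ n = a.appTop t →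
    ∃! b : P ⟶ X', b ≫ p = a ∧ b.appTop z = y

theorem IsRoot.bc {X X' W W' : Scheme.{u}} {p : X' ⟶ X} {t : Γ(X, ⊤)} {n : ℕ} {z : Γ(X', ⊤)}
    (h : IsRoot p t n z) {g : W ⟶ X} {g' : W' ⟶ X'} {p' : W' ⟶ W} (sq : IsPullback g' p' p g) :
    IsRoot p' (g.appTop t) n (g'.appTop z) where
  pow := by
    rw [← map_pow, h.pow, ← CommRingCat.comp_apply, ← CommRingCat.comp_apply, ← Scheme.Hom.comp_appTop,
      ← Scheme.Hom.comp_appTop, sq.w]
  univ {P} a y hy := by
    have hy' : y ^ n = (a ≫ g).appTop t := by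
      rw [hy, Scheme.Hom.comp_appTop]; rfl
    obtain ⟨b₀, ⟨h1, h2⟩, h3⟩ := h.univ (a ≫ g) y hy'
    refine ⟨sq.lift b₀ a h1, ⟨sq.lift_snd _ _ _, ?_⟩, ?_⟩
    · rw [← CommRingCat.comp_apply, ← Scheme.Hom.comp_appTop, sq.lift_fst, h2]
    · rintro c ⟨hc1, hc2⟩
      apply sq.hom_ext
      · rw [sq.lift_fst]
        apply h3
        refine ⟨by rw [Category.assoc, sq.w, reassoc_of% hc1], ?_⟩
        rw [← hc2, Scheme.Hom.comp_appTop]; rfl
      · rw [sq.lift_snd, hc1]

/-- The `n`-th power map on one coordinate of affine space. -/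
noncomputable def kap (S : Scheme.{u}) (ι : Type u) [DecidableEq ι] (e : ι) (n : ℕ) : 𝔸(ι; S) ⟶ 𝔸(ι; S) :=
  AffineSpace.homOfVector (𝔸(ι; S) ↘ S)
    (Function.update (AffineSpace.coord S) e (AffineSpace.coord S e ^ n))

section

variable {S W W' : Scheme.{u}} {p : W' ⟶ W} {ι : Type u} [DecidableEq ι] {v : ι → Γ(W, ⊤)} {e : ι} {n : ℕ}
  {z : Γ(W', ⊤)} (h : IsRoot p (v e) n z) (w : W ⟶ S)

/-- The coordinates on the cover. -/
noncomputable def vv (p : W' ⟶ W) (v : ι → Γ(W, ⊤)) (e : ι) (z : Γ(W', ⊤)) : ι → Γ(W', ⊤) :=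
  Function.update (fun i => p.appTop (v i)) e z

theorem kap_coord_self : (kap S ι e n).appTop (AffineSpace.coord S e) = AffineSpace.coord S e ^ n := by
  rw [kap, AffineSpace.homOfVector_appTop_coord, Function.update_self]

theorem kap_coord_of_ne {i : ι} (hi : i ≠ e) : (kap S ι e n).appTop (AffineSpace.coord S i) = AffineSpace.coord S i := by
  rw [kap, AffineSpace.homOfVector_appTop_coord, Function.update_of_ne hi]

include h in
theorem isPullback : IsPullback (AffineSpace.homOfVector (p ≫ w) (vv p v e z)) p (kap S ι e n)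
    (AffineSpace.homOfVector w v) := by
  have hw : AffineSpace.homOfVector (p ≫ w) (vv p v e z) ≫ kap S ι e n = p ≫ AffineSpace.homOfVector w v := by
    apply AffineSpace.hom_ext
    · rw [Category.assoc, Category.assoc, kap, AffineSpace.homOfVector_over, AffineSpace.homOfVector_over,
        AffineSpace.homOfVector_over]
    · intro i
      rw [Scheme.Hom.comp_appTop, Scheme.Hom.comp_appTop, CommRingCat.comp_apply, CommRingCat.comp_apply,
        AffineSpace.homOfVector_appTop_coord]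
      by_cases hi : i = e
      · subst hi
        rw [kap_coord_self, map_pow, AffineSpace.homOfVector_appTop_coord, vv, Function.update_self, h.pow]
      · rw [kap_coord_of_ne hi, AffineSpace.homOfVector_appTop_coord, vv, Function.update_of_ne hi]
  have key : ∀ {P : Scheme.{u}} (c : P ⟶ 𝔸(ι; S)) (a : P ⟶ W),
      c ≫ kap S ι e n = a ≫ AffineSpace.homOfVector w v →
      ∃ b : P ⟶ W', (b ≫ AffineSpace.homOfVector (p ≫ w) (vv p v e z) = c ∧ b ≫ p = a) ∧
        ∀ b' : P ⟶ W', b' ≫ AffineSpace.homOfVector (p ≫ w) (vv p v e z) = c → b' ≫ p = a → b' = b := by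
    intro P c a hc
    have hcoord : ∀ i, c.appTop ((kap S ι e n).appTop (AffineSpace.coord S i)) = a.appTop (v i) := by
      intro i
      have h1 := congrArg (fun k => k.appTop (AffineSpace.coord S i)) hc
      rw [Scheme.Hom.comp_appTop, Scheme.Hom.comp_appTop, CommRingCat.comp_apply, CommRingCat.comp_apply,
        AffineSpace.homOfVector_appTop_coord] at h1
      exact h1
    have hstr : c ≫ (𝔸(ι; S) ↘ S) = a ≫ w := by
      have h1 := congrArg (fun k => k ≫ (𝔸(ι; S) ↘ S)) hc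
      simp only [Category.assoc, kap, AffineSpace.homOfVector_over] at h1
      exact h1
    obtain ⟨b, ⟨hb1, hb2⟩, hb3⟩ := h.univ a (c.appTop (AffineSpace.coord S e)) (by
      rw [← hcoord e, kap_coord_self, map_pow])
    refine ⟨b, ⟨?_, hb1⟩, ?_⟩
    · apply AffineSpace.hom_ext
      · rw [Category.assoc, AffineSpace.homOfVector_over, hstr, reassoc_of% hb1]
      · intro i
        rw [Scheme.Hom.comp_appTop, CommRingCat.comp_apply, AffineSpace.homOfVector_appTop_coord]
        by_cases hi : i = e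
        · subst hi
          rw [vv, Function.update_self, hb2]
        · rw [vv, Function.update_of_ne hi, ← CommRingCat.comp_apply, ← Scheme.Hom.comp_appTop, hb1, ← hcoord i,
            kap_coord_of_ne hi]
    · intro b' h1 h2
      apply hb3
      refine ⟨h2, ?_⟩
      rw [← h1, Scheme.Hom.comp_appTop, CommRingCat.comp_apply, AffineSpace.homOfVector_appTop_coord, vv,
        Function.update_self]
  refine ⟨⟨hw⟩, ⟨PullbackCone.IsLimit.mk _ (fun s => (key s.fst s.snd s.condition).choose)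
    (fun s => (key s.fst s.snd s.condition).choose_spec.1.1)
    (fun s => (key s.fst s.snd s.condition).choose_spec.1.2)
    (fun s m h1 h2 => (key s.fst s.snd s.condition).choose_spec.2 m h1 h2)⟩⟩

include h in
theorem etale_homOfVector (he : Etale (AffineSpace.homOfVector w v)) :
    Etale (AffineSpace.homOfVector (p ≫ w) (vv p v e z)) :=
  MorphismProperty.of_isPullback (isPullback h w).flip he

end

/-- The cover obtained by adjoining a root of the equation of a relative normal crossings divisor. -/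
theorem isRelSNC {X X' S : Scheme.{u}} {f : X ⟶ S} {t : Γ(X, ⊤)} (hD : SGA1t.IsRelSNC f (fun _ : Fin 1 => t))
    {p : X' ⟶ X} {n : ℕ} (hn : n ≠ 0) {z : Γ(X', ⊤)} (h : IsRoot p t n z) :
    SGA1t.IsRelSNC (p ≫ f) (fun _ : Fin 1 => z) := by
  classical
  rintro x' ⟨⟨i', hi'⟩⟩
  change x' ∉ X'.basicOpen z at hi'
  have hi : p x' ∉ X.basicOpen t := by
    intro h1
    apply hi'
    have h2 : x' ∈ p ⁻¹ᵁ X.basicOpen t := h1
    rw [Scheme.preimage_basicOpen_top, ← h.pow, Scheme.basicOpen_pow _ _ (Nat.pos_of_ne_zero hn)] at h2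
    exact h2
  let i₀ : SGA1t.vanishingAt (fun _ : Fin 1 => t) (p x') := ⟨0, hi⟩
  obtain ⟨W, hxW, d, v, e, he, hE, hv⟩ := hD (p x') ⟨i₀⟩
  have hroot : IsRoot (p ∣_ W) (v (ULift.up (e i₀))) n ((p ⁻¹ᵁ W).ι.appTop z) := by
    rw [hv i₀, Chart.ι_appTop_apply]
    exact h.bc (isPullback_morphismRestrict p W).flip
  refine ⟨p ⁻¹ᵁ W, hxW, d, vv (p ∣_ W) v (ULift.up (e i₀)) ((p ⁻¹ᵁ W).ι.appTop z), fun _ => e i₀, ?_, ?_, ?_⟩
  · rintro ⟨a, ha⟩ ⟨b, hb⟩ -
    exact Subtype.ext (Subsingleton.elim _ _)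
  · have h1 := etale_homOfVector hroot (W.ι ≫ f) hE
    rw [← Category.assoc, morphismRestrict_ι, Category.assoc] at h1
    exact h1
  · intro k
    rw [Chart.ι_appTop_apply, vv, Function.update_self]

theorem eq_toSpec {P : Scheme.{u}} {R : CommRingCat.{u}} (a : P ⟶ Spec R) :
    a = P.toSpecΓ ≫ Spec.map ((Scheme.ΓSpecIso R).inv ≫ a.appTop) := by
  rw [Spec.map_comp, ← Scheme.toSpecΓ_naturality_assoc]
  simp

theorem toSpec_ext {P : Scheme.{u}} {R : CommRingCat.{u}} (a b : P ⟶ Spec R)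
    (h : ∀ x : R, a.appTop ((Scheme.ΓSpecIso R).inv x) = b.appTop ((Scheme.ΓSpecIso R).inv x)) : a = b := by
  rw [eq_toSpec a, eq_toSpec b]
  congr 2
  ext x
  exact h x

theorem toSpec_apply {P : Scheme.{u}} {R : CommRingCat.{u}} (β : R ⟶ Γ(P, ⊤)) (x : R) :
    (P.toSpecΓ ≫ Spec.map β).appTop ((Scheme.ΓSpecIso R).inv x) = β x := by
  rw [Scheme.Hom.comp_appTop, CommRingCat.comp_apply, ← CommRingCat.comp_apply (Scheme.ΓSpecIso R).inv,
    ← Scheme.ΓSpecIso_inv_naturality, CommRingCat.comp_apply, Scheme.toSpecΓ_appTop, ← CommRingCat.comp_apply,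
    Iso.inv_hom_id]
  rfl

theorem spec_apply {R R' : CommRingCat.{u}} (β : R ⟶ R') (x : R) :
    (Spec.map β).appTop ((Scheme.ΓSpecIso R).inv x) = (Scheme.ΓSpecIso R').inv (β x) :=
  (congrArg (fun k => k x) (Scheme.ΓSpecIso_inv_naturality β)).symm

/-- Adjoining a root as a fibre product. -/
theorem isRoot_pullback {X : Scheme.{u}} (t : Γ(X, ⊤)) (n : ℕ)
    (τ : X ⟶ Spec (CommRingCat.of (Polynomial Γ(X, ⊤))))
    (hτ : τ = X.toSpecΓ ≫ Spec.map (CommRingCat.ofHom (Polynomial.aeval (R := Γ(X, ⊤)) t).toRingHom))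
    (ν : Spec (CommRingCat.of (Polynomial Γ(X, ⊤))) ⟶ Spec (CommRingCat.of (Polynomial Γ(X, ⊤))))
    (hν : ν = Spec.map (CommRingCat.ofHom (Polynomial.expand Γ(X, ⊤) n).toRingHom)) :
    IsRoot (pullback.fst τ ν) t n
      ((pullback.snd τ ν).appTop ((Scheme.ΓSpecIso _).inv (Polynomial.X : Polynomial Γ(X, ⊤)))) := by
  have hτ' : ∀ q : Polynomial Γ(X, ⊤), τ.appTop ((Scheme.ΓSpecIso _).inv q) = Polynomial.aeval t q := by
    intro q
    rw [hτ]
    exact toSpec_apply (R := CommRingCat.of (Polynomial Γ(X, ⊤))) _ q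
  have hν' : ∀ q : Polynomial Γ(X, ⊤), ν.appTop ((Scheme.ΓSpecIso (CommRingCat.of (Polynomial Γ(X, ⊤)))).inv q) =
      (Scheme.ΓSpecIso _).inv (Polynomial.expand Γ(X, ⊤) n q) := by
    intro q
    rw [hν]
    exact spec_apply (R := CommRingCat.of (Polynomial Γ(X, ⊤))) _ q
  constructor
  · rw [← map_pow, ← map_pow]
    have h1 : (Polynomial.X : Polynomial Γ(X, ⊤)) ^ n = Polynomial.expand Γ(X, ⊤) n Polynomial.X :=
      (Polynomial.expand_X _).symm
    rw [h1, ← hν', ← CommRingCat.comp_apply, ← Scheme.Hom.comp_appTop, ← pullback.condition,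
      Scheme.Hom.comp_appTop, CommRingCat.comp_apply, hτ', Polynomial.aeval_X]
  · intro P a y hy
    let β : CommRingCat.of (Polynomial Γ(X, ⊤)) ⟶ Γ(P, ⊤) :=
      CommRingCat.ofHom (Polynomial.eval₂RingHom a.appTop.hom y)
    have hβ : ∀ q, β q = Polynomial.eval₂ a.appTop.hom y q := fun q => rfl
    have hw : a ≫ τ = (P.toSpecΓ ≫ Spec.map β) ≫ ν := by
      apply toSpec_ext
      intro q
      rw [Scheme.Hom.comp_appTop, CommRingCat.comp_apply, hτ', Scheme.Hom.comp_appTop, CommRingCat.comp_apply, hν',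
        toSpec_apply, hβ, Polynomial.expand_eq_comp_X_pow, Polynomial.eval₂_comp, Polynomial.eval₂_X_pow, hy,
        Polynomial.aeval_def]
      refine (Polynomial.hom_eval₂ q (algebraMap Γ(X, ⊤) Γ(X, ⊤)) a.appTop.hom t).trans ?_
      rw [Algebra.algebraMap_self, RingHom.comp_id]
    refine ⟨pullback.lift a (P.toSpecΓ ≫ Spec.map β) hw, ⟨pullback.lift_fst _ _ _, ?_⟩, ?_⟩
    · rw [← CommRingCat.comp_apply, ← Scheme.Hom.comp_appTop, pullback.lift_snd, toSpec_apply, hβ,
        Polynomial.eval₂_X]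
    · rintro c ⟨hc1, hc2⟩
      apply pullback.hom_ext
      · rw [pullback.lift_fst, hc1]
      · rw [pullback.lift_snd]
        apply toSpec_ext
        intro q
        rw [toSpec_apply, hβ]
        let γ : Polynomial Γ(X, ⊤) →+* Γ(P, ⊤) :=
          ((c ≫ pullback.snd τ ν).appTop.hom).comp
            (Scheme.ΓSpecIso (CommRingCat.of (Polynomial Γ(X, ⊤)))).inv.hom
        have hγ : γ = Polynomial.eval₂RingHom a.appTop.hom y := by
          apply Polynomial.ringHom_ext
          · intro r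
            have h1 : (Polynomial.C r : Polynomial Γ(X, ⊤)) = Polynomial.expand Γ(X, ⊤) n (Polynomial.C r) :=
              (Polynomial.expand_C _ _).symm
            change (c ≫ pullback.snd τ ν).appTop ((Scheme.ΓSpecIso (CommRingCat.of (Polynomial Γ(X, ⊤)))).inv
              (Polynomial.C r)) = _
            rw [h1, ← hν', ← CommRingCat.comp_apply, ← Scheme.Hom.comp_appTop, Category.assoc, ← pullback.condition,
              reassoc_of% hc1, Scheme.Hom.comp_appTop, CommRingCat.comp_apply, hτ', ← h1, Polynomial.aeval_C]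
            exact (Polynomial.eval₂_C _ _).symm
          · change (c ≫ pullback.snd τ ν).appTop ((Scheme.ΓSpecIso (CommRingCat.of (Polynomial Γ(X, ⊤)))).inv
              Polynomial.X) = _
            rw [Scheme.Hom.comp_appTop, CommRingCat.comp_apply, hc2]
            exact (Polynomial.eval₂_X _ _).symm
        exact congrArg (fun k => k q) hγ

end K154.RootCov
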