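import Groth.Agent.Pi1.K154.LocSec
import Groth.Agent.Pi1.K154.GlobExt
import Groth.Agent.Pi1.K154.RootCov
import Groth.Agent.Pi1.H404.UnitIso
import Groth.Agent.Pi1A.ClopenCrit

/-!
# Principal covers of the complement of a relative divisor extend after adjoining a root of the equation
-/

set_option autoImplicit false
universe u v

open CategoryTheory CategoryTheory.Limits AlgebraicGeometry Opposite

namespace K154.KumPair

open Groth.Agent Groth.Agent.Pi1 Groth.Agent.Pi1.H415.Stmts Groth.Agent.Sga4B.ConstLC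

/-- If locally constant functions extend uniquely over the complement of `U`, restriction of finite étale covers
to `U` is fully faithful. -/
theorem fullyFaithful {X : Scheme.{u}} (U : X.Opens)
    (hLC : ∀ {T : Scheme.{u}} (g : T ⟶ X) [Etale g],
      Function.Bijective (LocallyConstant.comap (Z := Fin 2) (cmap (pullback.fst g U.ι)))) :
    (FEt.restrict U.ι).Full ∧ (FEt.restrict U.ι).Faithful := by
  classical
  apply Pi1A.ClopenCrit.restrict_fullyFaithful_of_isClopen
  · intro T O hO h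
    have hE : Etale T.hom := T.prop.2
    have h1 : LocallyConstant.comap (cmap (pullback.fst T.hom U.ι)) (LocallyConstant.ofIsClopen hO) =
        LocallyConstant.comap (cmap (pullback.fst T.hom U.ι)) (LocallyConstant.const _ 1) := by
      ext z
      have hz : pullback.fst T.hom U.ι z ∉ O := fun hz => by
        have : z ∈ pullback.fst T.hom U.ι ⁻¹' O := hz
        rw [h] at this
        exact this
      simp [LocallyConstant.ofIsClopen, hz]
    have h2 := (hLC T.hom).1 h1
    rw [← LocallyConstant.ofIsClopen_fiber_zero hO, h2]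
    ext x
    simp
  · intro T O hO
    have hE : Etale T.hom := T.prop.2
    obtain ⟨g, hg⟩ := (hLC T.hom).2 (LocallyConstant.ofIsClopen hO)
    refine ⟨g ⁻¹' {0}, g.2.isClopen_fiber 0, ?_⟩
    rw [← LocallyConstant.ofIsClopen_fiber_zero hO, ← hg]
    rfl

theorem core (hA : Abh.{u}) (hK : KumGal.{u}) {X X' S : Scheme.{u}} (f : X ⟶ S) (t : Γ(X, ⊤))
    (hD : SGA1t.IsRelSNC f (fun _ : Fin 1 => t)) (p : X' ⟶ X) [IsAffineHom p] (z : Γ(X', ⊤))
    (G : Type v) [Group G] [Finite G] (h : RootCov.IsRoot p t (Nat.card G) z)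
    (hn : ∀ x : X, x ∉ X.basicOpen t → IsUnit ((Nat.card G : ℕ) : X.residueField x))
    (U : X.Opens) (hU : U = SGA1t.compl (fun _ : Fin 1 => t)) (V : FEt.Cat (U : Scheme.{u}))
    (ρ : G →* Aut V) (hV : SGA1t.IsPrincipal G V ρ) :
    (∃ W : FEt.Cat X', Nonempty ((FEt.restrict (p ⁻¹ᵁ U).ι).obj W ≅ (FEt.restrict (p ∣_ U)).obj V)) ∧
      (FEt.restrict (p ⁻¹ᵁ U).ι).Full ∧ (FEt.restrict (p ⁻¹ᵁ U).ι).Faithful := by
  subst hU
  have hn0 : Nat.card G ≠ 0 := Nat.card_pos.ne'
  have hD' := RootCov.isRelSNC hD hn0 h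
  have hU' : p ⁻¹ᵁ SGA1t.compl (fun _ : Fin 1 => t) = SGA1t.compl (fun _ : Fin 1 => z) := by
    ext x
    change p x ∈ SGA1t.compl (fun _ : Fin 1 => t) ↔ x ∈ SGA1t.compl (fun _ : Fin 1 => z)
    rw [H404.Chart.mem_compl_iff, H404.Chart.mem_compl_iff]
    have h1 : p x ∈ X.basicOpen t ↔ x ∈ X'.basicOpen z := by
      have h2 : p ⁻¹ᵁ X.basicOpen t = X'.basicOpen z := by
        rw [Scheme.preimage_basicOpen_top, ← h.pow, Scheme.basicOpen_pow _ _ Nat.card_pos]
      rw [← h2]
      rfl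
    exact forall_congr' fun _ => h1
  have hLC : ∀ (A : Type v) [Finite A] (O : X'.Opens), O = SGA1t.compl (fun _ : Fin 1 => z) →
      ∀ {T : Scheme.{u}} (g : T ⟶ X') [Etale g],
        Function.Bijective (LocallyConstant.comap (Z := A) (cmap (pullback.fst g O.ι))) := by
    rintro A _ _ rfl T g _
    exact H404.UnitIso.comap_bijective hD' g A
  have hLC2 : ∀ (O : X'.Opens), O = SGA1t.compl (fun _ : Fin 1 => z) →
      ∀ {T : Scheme.{u}} (g : T ⟶ X') [Etale g],
        Function.Bijective (LocallyConstant.comap (Z := Fin 2) (cmap (pullback.fst g O.ι))) := by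
    rintro _ rfl T g _
    exact H404.UnitIso.comap_bijective hD' g (Fin 2)
  refine ⟨?_, fullyFaithful _ (fun g _ => hLC2 _ hU' g)⟩
  have hV' := H408.PrincRestrict.isPrincipal_restrict (p ∣_ SGA1t.compl (fun _ : Fin 1 => t)) V ρ hV
  refine GlobExt.exists_extension _ hV' (fun T => ?_) (fun x' => ?_)
  · have : Etale T.hom := T.prop
    exact hLC G _ hU' T.hom
  · by_cases hx' : x' ∈ p ⁻¹ᵁ SGA1t.compl (fun _ : Fin 1 => t)
    · let V' := (FEt.restrict (p ∣_ SGA1t.compl (fun _ : Fin 1 => t))).obj V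
      have hE' : Etale V'.hom := V'.prop.2
      obtain ⟨y, hy⟩ := hV'.1 ⟨x', hx'⟩
      refine ⟨GlobExt.down V'.hom, y, ?_, ⟨GlobExt.ofSl (GlobExt.q1 V'.hom) (GlobExt.q1_h V'.hom)⟩⟩
      exact congrArg (p ⁻¹ᵁ SGA1t.compl (fun _ : Fin 1 => t)).ι hy
    · have hx : p x' ∉ X.basicOpen t := fun h1 => hx' ((H404.Chart.mem_compl_iff _).2 fun _ => h1)
      obtain ⟨E, e, he, y, hy, s, hs⟩ := LocSec.exists_local hA hK f (fun _ : Fin 1 => t) hD p (fun _ => z) G
        (fun _ => h.pow) V ρ hV x' ⟨⟨0, hx⟩⟩ (hn _ hx)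
      exact ⟨Scheme.Etale.mk e, y, hy, ⟨GlobExt.ofSl (T := Scheme.Etale.mk e)
        (pullback.lift (f := V.hom) (g := p ∣_ SGA1t.compl (fun _ : Fin 1 => t)) s (pullback.snd e _) hs)
        (pullback.lift_snd _ _ _)⟩⟩

end K154.KumPair
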