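import Groth.Agent.Localalg.Matlis3
import Groth.Agent.Localalg.LCIface
import Groth.Agent.Ega1.LimitSystem
import Mathlib.RingTheory.Support

/-!
# Annihilators of torsion modules with finite `f`-torsion over an `f`-adically complete ring
-/

set_option autoImplicit false
universe u

open IsLocalRing

namespace K154.LcAnn

open Groth.Agent Groth.Agent.Localalg.Matlis _root_.InjHull

variable {A : Type u} [CommRing A] [IsNoetherianRing A] [IsLocalRing A]

omit [IsNoetherianRing A] in
/-- A finite power torsion module is killed by a power of the maximal ideal. -/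
theorem exists_bound (K : Type u) [AddCommGroup K] [Module A K] [Module.Finite A K]
    (hK : LocCoh.IsPowerTorsion (maximalIdeal A) K) :
    ∃ n : ℕ, ∀ a ∈ (maximalIdeal A) ^ n, ∀ x : K, a • x = 0 := by
  obtain ⟨s, hs⟩ := (Module.Finite.fg_top : (⊤ : Submodule A K).FG)
  choose n hn using hK
  refine ⟨s.sup n, fun a ha x => ?_⟩
  have hx : x ∈ Submodule.span A (s : Set K) := by rw [hs]; trivial
  induction hx using Submodule.span_induction with
  | mem x hx => exact hn x a (Ideal.pow_le_pow_right (Finset.le_sup hx) ha)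
  | zero => exact smul_zero _
  | add x y _ _ hx hy => rw [smul_add, hx, hy, add_zero]
  | smul r x _ hx => rw [smul_comm, hx, smul_zero]

/-- Let `A` be a Noetherian local ring which is `f`-adically complete, `H` a power torsion module whose
`f`-torsion is finite. Then the annihilator of `H` and `f` generate an ideal of definition (or the unit
ideal). -/
theorem exists_ann (f : A) (hf : f ∈ maximalIdeal A) [IsAdicComplete (Ideal.span {f}) A]
    (H : Type u) [AddCommGroup H] [Module A H] (hH : LocCoh.IsPowerTorsion (maximalIdeal A) H)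
    (hfin : Module.Finite A (LinearMap.ker (LinearMap.lsmul A H f))) :
    ∃ c : Ideal A, maximalIdeal A ≤ (c ⊔ Ideal.span {f}).radical ∧ ∀ a ∈ c, ∀ x : H, a • x = 0 := by
  obtain ⟨E, _, _, g, hg⟩ := Localalg.InjHull.exists_injective_hull A (ResidueField A)
  let K := LinearMap.ker (LinearMap.lsmul A H f)
  have hKt : LocCoh.IsPowerTorsion (maximalIdeal A) K := fun x => by
    obtain ⟨n, hn⟩ := hH x.1
    exact ⟨n, fun a ha => Subtype.ext (hn a ha)⟩
  obtain ⟨n, hn⟩ := exists_bound K hKt
  have hKl : IsFiniteLength A K := isFiniteLength_of_pow_smul n hn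
  have hDl : IsFiniteLength A (K →ₗ[A] E) := by
    rw [← Module.length_ne_top_iff, length_dual hg K hKl]
    exact Module.length_ne_top_iff.2 hKl
  let T := H →ₗ[A] E
  have hexact := lcomp_exact hg.isInjective K.subtype (LinearMap.lsmul A H f) (by
    rw [LinearMap.exact_iff, Submodule.range_subtype])
  have hsurj := lcomp_surjective hg.isInjective K.subtype K.injective_subtype
  let r : T →ₗ[A] (K →ₗ[A] E) := LinearMap.lcomp A E K.subtype
  have hrange : LinearMap.ker r = (Ideal.span {f} • ⊤ : Submodule A T) := by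
    rw [Submodule.ideal_span_singleton_smul]
    ext φ
    rw [LinearMap.mem_ker]
    refine (hexact φ).trans ?_
    rw [Submodule.mem_smul_pointwise_iff_exists]
    constructor
    · rintro ⟨ψ, hψ⟩
      refine ⟨ψ, trivial, ?_⟩
      rw [← hψ]
      ext x
      simp
      rfl
    · rintro ⟨ψ, -, hψ⟩
      refine ⟨ψ, ?_⟩
      rw [← hψ]
      ext x
      simp
      rfl
  have hTfl : IsFiniteLength A (T ⧸ (Ideal.span {f} • ⊤ : Submodule A T)) := by
    rw [← hrange]
    exact (r.quotKerEquivOfSurjective hsurj).symm.isFiniteLength hDl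
  have hTf : Module.Finite A (T ⧸ (Ideal.span {f} • ⊤ : Submodule A T)) := by
    have := (isFiniteLength_iff_isNoetherian_isArtinian.1 hTfl).1
    infer_instance
  have hTh : IsHausdorff (Ideal.span {f}) T := by
    refine ⟨fun φ hφ => ?_⟩
    ext x
    obtain ⟨k, hk⟩ := hH x
    have h1 := hφ k
    rw [SModEq.zero, Ideal.span_singleton_pow, Submodule.ideal_span_singleton_smul,
      Submodule.mem_smul_pointwise_iff_exists] at h1
    obtain ⟨ψ, -, rfl⟩ := h1
    rw [LinearMap.smul_apply, ← map_smul, hk _ (Ideal.pow_mem_pow hf k), map_zero]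
    rfl
  have hT : Module.Finite A T := Ega1.LimitSystem.finite_of_finite_quotient (I := Ideal.span {f}) hTf
  refine ⟨Module.annihilator A T, ?_, ?_⟩
  · rw [← PrimeSpectrum.zeroLocus_subset_zeroLocus_iff]
    intro p hp
    rw [PrimeSpectrum.zeroLocus_sup] at hp
    have h1 : p ∈ Module.support A (T ⧸ (Ideal.span {f} • ⊤ : Submodule A T)) := by
      rw [Module.support_quotient, Module.support_eq_zeroLocus]
      exact hp
    rw [Module.support_eq_zeroLocus] at h1
    have h2 : (maximalIdeal A) ^ n ≤ Module.annihilator A (T ⧸ (Ideal.span {f} • ⊤ : Submodule A T)) := by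
      intro a ha
      rw [Module.mem_annihilator]
      intro y
      obtain ⟨φ, rfl⟩ := Submodule.Quotient.mk_surjective _ y
      rw [← Submodule.Quotient.mk_smul, Submodule.Quotient.mk_eq_zero, ← hrange, LinearMap.mem_ker]
      ext x
      change a • φ x.1 = 0
      rw [← map_smul]
      have := congrArg Subtype.val (hn a ha x)
      change a • x.1 = 0 at this
      rw [this, map_zero]
    have h3 : (maximalIdeal A) ^ n ≤ p.asIdeal := h2.trans h1
    exact p.2.le_of_pow_le h3
  · intro a ha x
    by_contra hne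
    obtain ⟨φ, hφ⟩ := exists_apply_ne_zero hg hne
    apply hφ
    have := LinearMap.congr_fun (Module.mem_annihilator.1 ha φ) x
    rw [map_smul]
    exact this

/-- The `f`-torsion of the local cohomology of `A` is finite as soon as the local cohomology of `A/f` in
the degree below is. -/
theorem finite_ker (I : Ideal A) (f : A) (hreg : ∀ a : A, f * a = 0 → a = 0) (i : ℕ)
    (h : Module.Finite A (LocCoh.H I i (A ⧸ Ideal.span {f}))) :
    Module.Finite A (LinearMap.ker (LinearMap.lsmul A (LocCoh.H I (i + 1) A) f)) := by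
  have hinj : Function.Injective (LinearMap.lsmul A A f) := by
    rw [injective_iff_map_eq_zero]
    intro a ha
    exact hreg a ha
  have hex : Function.Exact (LinearMap.lsmul A A f) (Submodule.mkQ (Ideal.span {f})) := by
    rw [LinearMap.exact_iff, Submodule.ker_mkQ]
    ext x
    rw [Ideal.mem_span_singleton', LinearMap.mem_range]
    exact ⟨fun ⟨a, ha⟩ => ⟨a, by rw [← ha, LinearMap.lsmul_apply, smul_eq_mul, mul_comm]⟩,
      fun ⟨a, ha⟩ => ⟨a, by rw [← ha, LinearMap.lsmul_apply, smul_eq_mul, mul_comm]⟩⟩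
  obtain ⟨δ, -, -, h3⟩ := Localalg.LCIface.les I A A (A ⧸ Ideal.span {f}) (LinearMap.lsmul A A f)
    (Submodule.mkQ (Ideal.span {f})) hinj (Submodule.mkQ_surjective _) hex i
  have h4 : LinearMap.ker (LinearMap.lsmul A (LocCoh.H I (i + 1) A) f) = LinearMap.range δ := by
    ext x
    rw [LinearMap.mem_ker, LinearMap.lsmul_apply, ← Localalg.LCIface.lin I A (i + 1) f x]
    exact h3 x
  rw [h4]
  exact Module.Finite.range δ

theorem mul_mem_of_le {f : A} {c d : Ideal A} (hc : maximalIdeal A ≤ (c ⊔ Ideal.span {f}).radical)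
    (hd : maximalIdeal A ≤ (d ⊔ Ideal.span {f}).radical) :
    maximalIdeal A ≤ ((c * d) ⊔ Ideal.span {f}).radical := by
  intro x hx
  obtain ⟨a, ha⟩ := hc hx
  obtain ⟨b, hb⟩ := hd hx
  refine ⟨a + b, ?_⟩
  rw [pow_add]
  have h1 := Ideal.mul_mem_mul ha hb
  refine (?_ : (c ⊔ Ideal.span {f}) * (d ⊔ Ideal.span {f}) ≤ c * d ⊔ Ideal.span {f}) h1
  rw [Ideal.sup_mul, Ideal.mul_sup, Ideal.mul_sup]
  refine sup_le (sup_le le_sup_left ?_) (sup_le ?_ ?_)
  · exact Ideal.mul_le_right.trans le_sup_right
  · exact Ideal.mul_le_left.trans le_sup_right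
  · exact Ideal.mul_le_left.trans le_sup_right

/-- The uniform annihilator of the local cohomology in degrees at most three. -/
theorem exists_uniform (f : A) (hf : f ∈ maximalIdeal A) [IsAdicComplete (Ideal.span {f}) A]
    (hreg : ∀ a : A, f * a = 0 → a = 0)
    (h1 : Module.Finite A (LocCoh.H (maximalIdeal A) 1 (A ⧸ Ideal.span {f})))
    (h2 : Module.Finite A (LocCoh.H (maximalIdeal A) 2 (A ⧸ Ideal.span {f}))) :
    ∃ c : Ideal A, c ≤ maximalIdeal A ∧ (c ⊔ Ideal.span {f}).radical = maximalIdeal A ∧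
      ∀ i ≤ 3, ∀ a ∈ c, ∀ x : LocCoh.H (maximalIdeal A) i A, a • x = 0 := by
  have hfin0 : Module.Finite A (LinearMap.ker (LinearMap.lsmul A (LocCoh.H (maximalIdeal A) 0 A) f)) := by
    obtain ⟨g, hg⟩ := Localalg.LCIface.exists_H0 (maximalIdeal A) A
    have h0 : Module.Finite A (LocCoh.H (maximalIdeal A) 0 A) := Module.Finite.of_injective g hg
    exact Module.Finite.of_injective _ (Submodule.injective_subtype _)
  have h0 : Module.Finite A (LocCoh.H (maximalIdeal A) 0 (A ⧸ Ideal.span {f})) := by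
    obtain ⟨g, hg⟩ := Localalg.LCIface.exists_H0 (maximalIdeal A) (A ⧸ Ideal.span {f})
    exact Module.Finite.of_injective g hg
  have key : ∀ i, Module.Finite A (LinearMap.ker (LinearMap.lsmul A (LocCoh.H (maximalIdeal A) i A) f)) →
      ∃ c : Ideal A, maximalIdeal A ≤ (c ⊔ Ideal.span {f}).radical ∧
        ∀ a ∈ c, ∀ x : LocCoh.H (maximalIdeal A) i A, a • x = 0 := fun i hi =>
    exists_ann f hf _ (Localalg.LCIface.isPowerTorsion_H _ _ i) hi
  obtain ⟨c0, hc0, hc0'⟩ := key 0 hfin0
  obtain ⟨c1, hc1, hc1'⟩ := key 1 (finite_ker _ f hreg 0 h0)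
  obtain ⟨c2, hc2, hc2'⟩ := key 2 (finite_ker _ f hreg 1 h1)
  obtain ⟨c3, hc3, hc3'⟩ := key 3 (finite_ker _ f hreg 2 h2)
  have hm : maximalIdeal A ≤ (maximalIdeal A ⊔ Ideal.span {f}).radical :=
    le_sup_left.trans Ideal.le_radical
  refine ⟨maximalIdeal A * (c0 * (c1 * (c2 * c3))), Ideal.mul_le_left, ?_, ?_⟩
  · apply le_antisymm
    · rw [(maximalIdeal.isMaximal A).isPrime.radical_le_iff, sup_le_iff,
        Ideal.span_singleton_le_iff_mem]
      exact ⟨Ideal.mul_le_left, hf⟩
    · exact mul_mem_of_le hm (mul_mem_of_le hc0 (mul_mem_of_le hc1 (mul_mem_of_le hc2 hc3)))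
  · have e0 : maximalIdeal A * (c0 * (c1 * (c2 * c3))) ≤ c0 :=
      Ideal.mul_le_right.trans Ideal.mul_le_left
    have e1 : maximalIdeal A * (c0 * (c1 * (c2 * c3))) ≤ c1 :=
      Ideal.mul_le_right.trans (Ideal.mul_le_right.trans Ideal.mul_le_left)
    have e2 : maximalIdeal A * (c0 * (c1 * (c2 * c3))) ≤ c2 :=
      Ideal.mul_le_right.trans (Ideal.mul_le_right.trans (Ideal.mul_le_right.trans Ideal.mul_le_left))
    have e3 : maximalIdeal A * (c0 * (c1 * (c2 * c3))) ≤ c3 :=
      Ideal.mul_le_right.trans (Ideal.mul_le_right.trans (Ideal.mul_le_right.trans Ideal.mul_le_right))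
    intro i hi a ha
    match i, hi with
    | 0, _ => exact hc0' a (e0 ha)
    | 1, _ => exact hc1' a (e1 ha)
    | 2, _ => exact hc2' a (e2 ha)
    | 3, _ => exact hc3' a (e3 ha)

end K154.LcAnn
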