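import Groth.Agent.Pi1.K154.KumLoc
import Groth.Agent.Pi1.K154.Spread
import Groth.Agent.Pi1.H404.RelSNCBC
import Groth.Agent.Pi1.H408.PrincRestrict
import Groth.Agent.S0537

/-!
# Local sections of the pullback of a principal cover to a Kummer cover, near the divisor
-/

set_option autoImplicit false
universe u v

open CategoryTheory CategoryTheory.Limits AlgebraicGeometry

namespace K154.LocSec

open Groth.Agent Groth.Agent.Pi1 Groth.Agent.Pi1.H415 Groth.Agent.Pi1.H415.Stmts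
  Groth.Agent.Pi1.H415.Glue Groth.Agent.Pi1.H415.KumBC Groth.Agent.Pi1.H415.Local
  Groth.Agent.Pi1.H390

theorem specOf_closedPoint (X : Scheme.{u}) (x : X) (R : Type u) [CommRing R] [IsLocalRing R]
    [Algebra (X.presheaf.stalk x) R] [IsLocalHom (algebraMap (X.presheaf.stalk x) R)] :
    Hens2.specOf X x R (IsLocalRing.closedPoint R) = x := by
  rw [Hens2.specOf, Scheme.Hom.comp_apply]
  have h1 : Spec.map (CommRingCat.ofHom (algebraMap (X.presheaf.stalk x) R)) (IsLocalRing.closedPoint R) =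
      IsLocalRing.closedPoint (X.presheaf.stalk x) := by
    exact IsLocalRing.comap_closedPoint (algebraMap (X.presheaf.stalk x) R)
  rw [h1]
  exact Scheme.fromSpecStalk_closedPoint

section

variable {X S : Scheme.{u}} (f : X ⟶ S) {r : ℕ} (φ : Fin r → Γ(X, ⊤)) {X' : Scheme.{u}} (p : X' ⟶ X)
  (z : Fin r → Γ(X', ⊤)) (n : ℕ) (hz : ∀ i, z i ^ n = p.appTop (φ i))
  (x : X) (R : Type u) [CommRing R] [IsLocalRing R] [Algebra (X.presheaf.stalk x) R]
    [IsLocalHom (algebraMap (X.presheaf.stalk x) R)]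

include hz in
/-- The map to the local Kummer scheme given by the roots. -/
theorem exists_toKummer {P : Scheme.{u}} (a : P ⟶ X') (b : P ⟶ Spec (CommRingCat.of R))
    (hab : a ≫ p = b ≫ Hens2.specOf X x R) :
    ∃ κ : P ⟶ Spec (CommRingCat.of (SGA1t.kummer R (eqs φ x R) (fun _ => n))), κ ≫ str R (eqs φ x R) (fun _ => n) = b := by
  let g : R →+* Γ(P, ⊤) := (b.appTop.hom).comp (Scheme.ΓSpecIso (CommRingCat.of R)).inv.hom
  let _ : Algebra R Γ(P, ⊤) := g.toAlgebra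
  have h1 : ∀ i : SGA1t.vanishingAt φ x, (a.appTop (z i.1)) ^ n = algebraMap R Γ(P, ⊤) (eqs φ x R i) := by
    intro i
    change _ = b.appTop ((Scheme.ΓSpecIso (CommRingCat.of R)).inv (fn x R (φ i.1)))
    rw [← specOf_appTop, ← map_pow, hz]
    have h2 := congrArg (fun k : P ⟶ X => k.appTop (φ i.1)) hab
    rw [Scheme.Hom.comp_appTop, Scheme.Hom.comp_appTop] at h2
    exact h2
  let κ : SGA1t.kummer R (eqs φ x R) (fun _ => n) →ₐ[R] Γ(P, ⊤) := KumBasic.lift _ _ (fun i => a.appTop (z i.1)) h1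
  refine ⟨P.toSpecΓ ≫ Spec.map (CommRingCat.ofHom κ.toRingHom), ?_⟩
  rw [Category.assoc, ← Spec.map_comp, ← CommRingCat.ofHom_comp]
  have h2 : κ.toRingHom.comp (algebraMap R _) = g := κ.comp_algebraMap
  rw [h2]
  have h3 : CommRingCat.ofHom g = (Scheme.ΓSpecIso (CommRingCat.of R)).inv ≫ b.appTop := rfl
  rw [h3, Spec.map_comp, ← Category.assoc, ← Scheme.toSpecΓ_naturality, Category.assoc,
    ← SpecMap_ΓSpecIso_hom, ← Spec.map_comp, Iso.inv_hom_id, Spec.map_id]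
  exact Category.comp_id b

end

theorem exists_local (hA : Abh.{u}) (hK : KumGal.{u}) {X S : Scheme.{u}} (f : X ⟶ S) {r : ℕ} (φ : Fin r → Γ(X, ⊤))
    (hD : SGA1t.IsRelSNC f φ) {X' : Scheme.{u}} (p : X' ⟶ X) [IsAffineHom p] (z : Fin r → Γ(X', ⊤))
    (G : Type v) [Group G] [Finite G] (hz : ∀ i, z i ^ Nat.card G = p.appTop (φ i))
    (V : FEt.Cat (SGA1t.compl φ : Scheme.{u})) (ρ : G →* Aut V) (hV : SGA1t.IsPrincipal G V ρ)
    (x' : X') (hx : Nonempty (SGA1t.vanishingAt φ (p x')))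
    (hn : IsUnit ((Nat.card G : ℕ) : X.residueField (p x'))) :
    ∃ (E : Scheme.{u}) (e : E ⟶ X') (_ : Etale e) (y : E), e y = x' ∧
      ∃ s : pullback e (p ⁻¹ᵁ SGA1t.compl φ).ι ⟶ V.left,
        s ≫ V.hom = pullback.snd e _ ≫ (p ∣_ SGA1t.compl φ) := by
  obtain ⟨R, _, _, _, _, hR⟩ := S0537.result (X.presheaf.stalk (p x'))
  have hcm : cmpl φ (p x') R = Hens2.specOf X (p x') R ⁻¹ᵁ SGA1t.compl φ :=
    H404.RelSNCBC.compl_pb (Hens2.specOf X (p x') R)
  let r₀ : (cmpl φ (p x') R : Scheme.{u}) ⟶ SGA1t.compl φ :=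
    (Hens2.specOf X (p x') R).resLE (SGA1t.compl φ) (cmpl φ (p x') R) hcm.le
  have hr₀ : r₀ ≫ (SGA1t.compl φ).ι = (cmpl φ (p x') R).ι ≫ Hens2.specOf X (p x') R :=
    Scheme.Hom.resLE_comp_ι _ _
  obtain ⟨s, hs⟩ := KumLoc.exists_section f φ hD (p x') hx R hA hK G hn ((FEt.restrict r₀).obj V)
    (((FEt.restrict r₀).mapAut V).comp ρ) (H408.PrincRestrict.isPrincipal_restrict r₀ V ρ hV)
  have hF : IsFinite V.hom := V.prop.1
  have hE : Etale V.hom := V.prop.2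
  let q : (p ⁻¹ᵁ SGA1t.compl φ : X'.Opens).toScheme ⟶ X := (p ⁻¹ᵁ SGA1t.compl φ).ι ≫ p
  have hq : q = (p ∣_ SGA1t.compl φ) ≫ (SGA1t.compl φ).ι := (morphismRestrict_ι _ _).symm
  have hqa : IsAffineHom q := by
    have i1 : IsAffineHom (p ∣_ SGA1t.compl φ) :=
      MorphismProperty.of_isPullback (isPullback_morphismRestrict p _).flip inferInstance
    have i2 : IsAffineHom (SGA1t.compl φ).ι := inferInstanceAs (IsAffineHom (X.basicOpen (∏ i, φ i)).ι)
    rw [hq]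
    infer_instance
  let P := pullback q (Hens2.specOf X (p x') R)
  let a : P ⟶ (p ⁻¹ᵁ SGA1t.compl φ : X'.Opens).toScheme := pullback.fst _ _
  let b : P ⟶ Spec (CommRingCat.of R) := pullback.snd _ _
  have hab : a ≫ q = b ≫ Hens2.specOf X (p x') R := pullback.condition
  obtain ⟨κ, hκ⟩ := exists_toKummer φ p z (Nat.card G) hz (p x') R (a ≫ (p ⁻¹ᵁ SGA1t.compl φ).ι) b
    (by rw [Category.assoc]; exact hab)
  let KK := str R (eqs φ (p x') R) (fun _ => Nat.card G) ⁻¹ᵁ cmpl φ (p x') R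
  obtain ⟨β, hβ⟩ : ∃ β : P ⟶ KK, β ≫ KK.ι = κ := by
    refine ⟨IsOpenImmersion.lift KK.ι κ ?_, IsOpenImmersion.lift_fac _ _ _⟩
    rw [Scheme.Opens.range_ι]
    rintro _ ⟨y, rfl⟩
    change str R (eqs φ (p x') R) (fun _ => Nat.card G) (κ y) ∈ cmpl φ (p x') R
    rw [← Scheme.Hom.comp_apply, hκ, hcm]
    change Hens2.specOf X (p x') R (b y) ∈ SGA1t.compl φ
    rw [← Scheme.Hom.comp_apply, ← hab, hq, Scheme.Hom.comp_apply, Scheme.Hom.comp_apply]
    exact ((p ∣_ SGA1t.compl φ) (a y)).2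
  have hβ2 : β ≫ (str R (eqs φ (p x') R) (fun _ => Nat.card G) ∣_ cmpl φ (p x') R) ≫ r₀ =
      a ≫ (p ∣_ SGA1t.compl φ) := by
    rw [← cancel_mono (SGA1t.compl φ).ι, Category.assoc, Category.assoc, Category.assoc, hr₀,
      morphismRestrict_ι, morphismRestrict_ι_assoc, reassoc_of% hβ, reassoc_of% hκ, ← hab]
  obtain ⟨s₂, hs₂⟩ : ∃ s₂ : (KK : Scheme.{u}) ⟶ V.left,
      s₂ ≫ V.hom = (str R (eqs φ (p x') R) (fun _ => Nat.card G) ∣_ cmpl φ (p x') R) ≫ r₀ := by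
    let s₁ : (KK : Scheme.{u}) ⟶ pullback V.hom r₀ := s
    have hs₁ : s₁ ≫ pullback.snd V.hom r₀ = str R (eqs φ (p x') R) (fun _ => Nat.card G) ∣_ cmpl φ (p x') R := hs
    refine ⟨s₁ ≫ pullback.fst V.hom r₀, ?_⟩
    rw [Category.assoc, pullback.condition, ← Category.assoc, hs₁]
  obtain ⟨E₀, e₀, he₀, y₀, hy₀, s', hs'⟩ := Spread.exists_nbhd (Spread.isEtLim_specOf X (p x') R)
    (IsLocalRing.closedPoint R) V.hom q (p ∣_ SGA1t.compl φ) (β ≫ s₂) (by
      rw [Category.assoc, hs₂, hβ2])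
  rw [specOf_closedPoint] at hy₀
  obtain ⟨y, hy1, hy2⟩ := Scheme.Pullback.exists_preimage_pullback (f := p) (g := e₀) x' y₀ hy₀.symm
  let c : pullback (pullback.fst p e₀) (p ⁻¹ᵁ SGA1t.compl φ).ι ⟶ pullback q e₀ :=
    pullback.lift (pullback.snd _ _) (pullback.fst _ _ ≫ pullback.snd p e₀) (by
      rw [Category.assoc, ← pullback.condition (f := p) (g := e₀), ← Category.assoc, ← Category.assoc,
        ← pullback.condition])
  refine ⟨pullback p e₀, pullback.fst p e₀, inferInstance, y, hy1, c ≫ s', ?_⟩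
  rw [Category.assoc, hs', ← Category.assoc]
  congr 1
  exact pullback.lift_fst _ _ _

end K154.LocSec
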