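import Groth.Agent.Flat2H.SmoothPairAlg

/-!
# Étale coordinates containing a given equation of a smooth divisor: ring level
-/

set_option autoImplicit false
universe u v

namespace K154.PairAlg

open TensorProduct IsLocalRing KaehlerDifferential Groth.Agent.Flat2H.SmoothPairAlg

/-- `R → A` and `R → A/t` smooth, `q` a prime containing `t`.  Either `t` vanishes near `q`, or near `q` there
are étale coordinates over `R` one of which is `t`. -/
theorem exists_coordinates {R : Type u} {A : Type v} [CommRing R] [CommRing A] [Algebra R A] [Algebra.Smooth R A]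
    (t : A) [Algebra.Smooth R (A ⧸ Ideal.span {t})] (q : Ideal A) [q.IsPrime] (htq : t ∈ q) :
    (∃ s : A, s ∉ q ∧ s * t = 0) ∨
    ∃ (f : A) (m : ℕ) (g : Fin m → A), f ∉ q ∧
      ((algebraMap A (Localization.Away f)).comp
        (MvPolynomial.aeval (Sum.elim g fun _ : Fin 1 => t) : MvPolynomial (Fin m ⊕ Fin 1) R →ₐ[R] A).toRingHom).Etale := by
  classical
  let I : Ideal A := Ideal.span {t}
  have hIq : I ≤ q := by
    rw [Ideal.span_le]
    rintro _ rfl
    exact htq
  let L := Localization.AtPrime q
  have hIfg : I.FG := ⟨{t}, by simp [I]⟩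
  have : Algebra.FormallySmooth A L := Algebra.FormallySmooth.of_isLocalization q.primeCompl
  have : Algebra.FormallySmooth R L := Algebra.FormallySmooth.comp R A L
  have : Algebra.EssFiniteType A L := Algebra.EssFiniteType.of_isLocalization L q.primeCompl
  have : Algebra.EssFiniteType R L := Algebra.EssFiniteType.comp R A L
  have : Module.Free L Ω[L⁄R] := Module.free_of_flat_of_isLocalRing
  let IL := I.map (algebraMap A L)
  have hIL : IL ≤ maximalIdeal L := by
    rw [Ideal.map_le_iff_le_comap]
    intro x hx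
    rw [Ideal.mem_comap]
    have := (Localization.AtPrime.map_eq_maximalIdeal (I := q)) ▸ Ideal.mem_map_of_mem (algebraMap A L) (hIq hx)
    exact this
  have : IsScalarTower R (A ⧸ I) (L ⧸ IL) := IsScalarTower.of_algebraMap_eq fun x => by
    change Ideal.Quotient.mk IL (algebraMap R L x) = Ideal.Quotient.mk IL (algebraMap A L (algebraMap R A x))
    rw [← IsScalarTower.algebraMap_apply]
  have : Algebra.FormallySmooth (A ⧸ I) (L ⧸ IL) :=
    Algebra.FormallySmooth.of_isLocalization (Algebra.algebraMapSubmonoid (A ⧸ I) q.primeCompl)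
  have : Algebra.FormallySmooth R (L ⧸ IL) := Algebra.FormallySmooth.comp R (A ⧸ I) (L ⧸ IL)
  obtain ⟨m, n, g, h, hspan, b, hb1, hb2⟩ := local_core (R := R) IL hIL (hIfg.map _)
    (fun _ : Unit => algebraMap A L t) (by
      change _ = (Ideal.span {t}).map (algebraMap A L)
      rw [Ideal.map_span, Set.image_singleton, Set.range_const])
    (fun x : A => algebraMap A L x) (by
      have := KaehlerDifferential.span_range_map_derivation_of_isLocalization R (S := A) L q.primeCompl
      rw [← this]
      congr 1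
      ext y
      simp)
  match n, h, b, hspan, hb1, hb2 with
  | 0, h, b, hspan, hb1, hb2 =>
    left
    have h0 : algebraMap A L t = 0 := by
      have h1 : algebraMap A L t ∈ IL := Ideal.mem_map_of_mem _ (Ideal.mem_span_singleton_self t)
      rw [← hspan, Set.range_eq_empty, Ideal.span_empty] at h1
      exact h1
    obtain ⟨s, hs⟩ := (IsLocalization.map_eq_zero_iff q.primeCompl L t).1 h0
    exact ⟨s, s.2, hs⟩
  | 1, h, b, hspan, hb1, hb2 =>
    right
    let φ : MvPolynomial (Fin m ⊕ Fin 1) R →ₐ[R] A := MvPolynomial.aeval (Sum.elim g fun _ : Fin 1 => t)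
    let : Algebra (MvPolynomial (Fin m ⊕ Fin 1) R) A := φ.toRingHom.toAlgebra
    have : IsScalarTower R (MvPolynomial (Fin m ⊕ Fin 1) R) A := IsScalarTower.of_algebraMap_eq' φ.comp_algebraMap.symm
    have : Algebra.FinitePresentation (MvPolynomial (Fin m ⊕ Fin 1) R) A :=
      Algebra.FinitePresentation.of_restrict_scalars_finitePresentation R _ A
    have : IsScalarTower R (MvPolynomial (Fin m ⊕ Fin 1) R) L := IsScalarTower.of_algebraMap_eq' (by
      rw [IsScalarTower.algebraMap_eq (MvPolynomial (Fin m ⊕ Fin 1) R) A L, RingHom.comp_assoc,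
        ← IsScalarTower.algebraMap_eq R (MvPolynomial (Fin m ⊕ Fin 1) R) A, ← IsScalarTower.algebraMap_eq R A L])
    have hX : ∀ i, algebraMap (MvPolynomial (Fin m ⊕ Fin 1) R) A (MvPolynomial.X i) =
        Sum.elim g (fun _ => t) i := fun i => MvPolynomial.aeval_X _ i
    have het : Algebra.IsEtaleAt (MvPolynomial (Fin m ⊕ Fin 1) R) q := by
      refine Groth.Agent.UnramB.FormallyEtaleKaehler.formallyEtale_mvPolynomial_of_basis b (fun i => ?_)
      rw [IsScalarTower.algebraMap_apply (MvPolynomial (Fin m ⊕ Fin 1) R) A L, hX]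
      rcases i with i | i
      · exact hb1 i
      · exact hb2 i
    obtain ⟨_, ⟨_, ⟨r, rfl⟩, rfl⟩, hrq, hr⟩ :=
      PrimeSpectrum.isBasis_basic_opens.exists_subset_of_mem_open
        (show ⟨q, ‹_›⟩ ∈ Algebra.etaleLocus (MvPolynomial (Fin m ⊕ Fin 1) R) A from het) Algebra.isOpen_etaleLocus
    refine ⟨r, m, g, hrq, ?_⟩
    have h3 := Algebra.basicOpen_subset_etaleLocus_iff_etale.1 hr
    exact RingHom.etale_algebraMap.2 h3
  | n + 2, h, b, hspan, hb1, hb2 =>
    exfalso
    have h1 : b (Sum.inr 0) = b (Sum.inr 1) := by rw [hb2, hb2]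
    have h2 := b.injective h1
    simp at h2

end K154.PairAlg
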