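import Groth.Agent.Pi1.K154.PairAlg
import Groth.Agent.Sga4B.PushoutQuot
import Groth.Agent.Sga4B.RelDimUnique
import Groth.Agent.Flat2D.AffVec
import Groth.Agent.Pi1.H404.Chart
import Groth.Prelude.Def_SGA1t
import Mathlib.AlgebraicGeometry.Morphisms.Smooth
import Mathlib.AlgebraicGeometry.Morphisms.ClosedImmersion

/-!
# A smooth divisor given by one equation is a relative strict normal crossings divisor
-/

set_option autoImplicit false
universe u

open CategoryTheory CategoryTheory.Limits AlgebraicGeometry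

namespace K154.PairSNC

open Groth.Agent Groth.Agent.Sga4B

theorem relDim_eq {X S : Scheme.{u}} (f : X ⟶ S) (a b : ℕ) (hf : SmoothOfRelativeDimension a f) {T P : Scheme.{u}}
    [Nonempty T] (t : T ⟶ X) [IsOpenImmersion t] (s : T ⟶ P) [Etale s] (k : P ⟶ S)
    (hk : SmoothOfRelativeDimension b k) (w : t ≫ f = s ≫ k) : a = b := by
  have h1 : SmoothOfRelativeDimension (0 + a) (t ≫ f) := inferInstance
  have h2 : SmoothOfRelativeDimension (0 + b) (s ≫ k) := inferInstance
  rw [zero_add] at h1 h2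
  rw [← w] at h2
  exact RelDimUnique.eq_of_smoothOfRelativeDimension (t ≫ f) a b h1 h2

theorem exists_fromSpec {X : Scheme.{u}} {U : X.Opens} (hU : IsAffineOpen U) {x : X} (hx : x ∈ U) :
    ∃ q : PrimeSpectrum Γ(X, U), hU.fromSpec q = x ∧ ∀ a : Γ(X, U), a ∉ q.asIdeal ↔ x ∈ X.basicOpen a := by
  refine ⟨hU.primeIdealOf ⟨x, hx⟩, hU.fromSpec_primeIdealOf ⟨x, hx⟩, fun a => ?_⟩
  have h := hU.fromSpec_preimage_basicOpen a
  have h2 : hU.primeIdealOf ⟨x, hx⟩ ∈ hU.fromSpec ⁻¹ᵁ X.basicOpen a ↔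
      hU.primeIdealOf ⟨x, hx⟩ ∈ PrimeSpectrum.basicOpen a := by
    rw [h]
    exact Iff.rfl
  rw [← PrimeSpectrum.mem_basicOpen, ← h2]
  change hU.fromSpec (hU.primeIdealOf ⟨x, hx⟩) ∈ X.basicOpen a ↔ _
  rw [hU.fromSpec_primeIdealOf]

theorem fromSpec_appTop {X : Scheme.{u}} {U : X.Opens} (hU : IsAffineOpen U) (t : Γ(X, ⊤)) :
    hU.fromSpec.appTop t = (Scheme.ΓSpecIso Γ(X, U)).inv (X.presheaf.map (homOfLE le_top).op t) := by
  have h1 : hU.fromSpec = hU.isoSpec.inv ≫ U.ι := rfl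
  rw [h1, Scheme.Hom.comp_appTop, IsAffineOpen.isoSpec_inv_appTop, CommRingCat.comp_apply,
    ← Pi1.H404.Chart.ι_appTop_apply, CommRingCat.comp_apply, ← CommRingCat.comp_apply U.topIso.inv,
    Iso.inv_hom_id]
  rfl

theorem isRelSNC {S X Y : Scheme.{u}} (f : X ⟶ S) (i : Y ⟶ X) [IsClosedImmersion i] (m : ℕ)
    (hf : SmoothOfRelativeDimension (m + 1) f) (hh : SmoothOfRelativeDimension m (i ≫ f))
    (t : Γ(X, ⊤)) (ht : i.ker = Scheme.IdealSheafData.ofIdealTop (Ideal.span {t})) :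
    SGA1t.IsRelSNC f (fun _ : Fin 1 => t) := by
  rintro x ⟨⟨i0, hi0⟩⟩
  change x ∉ X.basicOpen t at hi0
  have hsm : Smooth f := SmoothOfRelativeDimension.smooth (m + 1) f
  have hsm' : Smooth (i ≫ f) := SmoothOfRelativeDimension.smooth m (i ≫ f)
  obtain ⟨V, hV, hxV, -⟩ := TopologicalSpace.Opens.isBasis_iff_nbhd.mp S.isBasis_affineOpens
    (U := ⊤) (x := f x) trivial
  obtain ⟨U, hU, hxU, hUV⟩ := TopologicalSpace.Opens.isBasis_iff_nbhd.mp X.isBasis_affineOpens
    (U := f ⁻¹ᵁ V) (x := x) hxV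
  have hV : IsAffineOpen V := hV
  have hU : IsAffineOpen U := hU
  have hxU : x ∈ U := hxU
  let algRB : Algebra Γ(S, V) Γ(X, U) := (f.appLE V U hUV).hom.toAlgebra
  have hRB : algebraMap Γ(S, V) Γ(X, U) = (f.appLE V U hUV).hom := rfl
  have h1 : Algebra.Smooth Γ(S, V) Γ(X, U) := f.smooth_appLE hV hU hUV
  have hsurj : Function.Surjective (i.app U).hom := Scheme.Hom.app_surjective i U hU
  let tU : Γ(X, U) := X.presheaf.map (homOfLE le_top).op t
  set J : Ideal Γ(X, U) := RingHom.ker (i.app U).hom with hJ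
  have hJt : J = Ideal.span {tU} := by
    have e1 : i.ker.ideal ⟨U, hU⟩ = J := Scheme.Hom.ker_apply _ _
    rw [← e1, ht, Scheme.IdealSheafData.ofIdealTop_ideal, Ideal.map_span, Set.image_singleton]
  have h2 : Algebra.Smooth Γ(S, V) (Γ(X, U) ⧸ Ideal.span {tU}) := by
    have hle : i ⁻¹ᵁ U ≤ (i ≫ f) ⁻¹ᵁ V := fun x hx => hUV hx
    have het : ((i ≫ f).appLE V (i ⁻¹ᵁ U) hle).hom.Smooth :=
      Scheme.Hom.smooth_appLE (i ≫ f) hV (hU.preimage i) _
    have hfac : ((i ≫ f).appLE V (i ⁻¹ᵁ U) hle).hom = (i.app U).hom.comp (f.appLE V U hUV).hom := by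
      rw [← CommRingCat.hom_comp, Scheme.Hom.app_eq_appLE, Scheme.Hom.appLE_comp_appLE]
    rw [hfac] at het
    let algRE : Algebra Γ(S, V) Γ(Y, i ⁻¹ᵁ U) := ((i.app U).hom.comp (f.appLE V U hUV).hom).toAlgebra
    have h1 : Algebra.Smooth Γ(S, V) Γ(Y, i ⁻¹ᵁ U) := het
    let eq : (Γ(X, U) ⧸ J) ≃+* Γ(Y, i ⁻¹ᵁ U) := RingHom.quotientKerEquivOfSurjective hsurj
    let eq' : (Γ(X, U) ⧸ J) ≃ₐ[Γ(S, V)] Γ(Y, i ⁻¹ᵁ U) :=
      { eq with commutes' := fun r => rfl }
    have h3 : Algebra.Smooth Γ(S, V) (Γ(X, U) ⧸ J) := Algebra.Smooth.of_equiv eq'.symm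
    rwa [hJt] at h3
  obtain ⟨q, hq, hqa⟩ := exists_fromSpec hU hxU
  have htq : tU ∈ q.asIdeal := by
    by_contra hcon
    have h3 := (hqa tU).1 hcon
    rw [Scheme.basicOpen_res] at h3
    exact hi0 h3.2
  rcases PairAlg.exists_coordinates (R := Γ(S, V)) tU q.asIdeal htq with ⟨s, hs, hst⟩ | ⟨g, m', c, hg, het⟩
  · exfalso
    let C := Localization.Away s
    let θ : Γ(X, U) →+* C := algebraMap _ _
    have hK : (RingHom.ker (i.app U).hom).map θ = ⊥ := by
      rw [← hJ, hJt, Ideal.map_span, Set.image_singleton, Ideal.span_singleton_eq_bot]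
      have h3 : IsUnit (θ s) := IsLocalization.Away.algebraMap_isUnit s
      have h4 : θ s * θ tU = 0 := by rw [← map_mul, hst, map_zero]
      exact h3.mul_right_eq_zero.mp h4
    obtain ⟨b, hb⟩ := PushoutQuot.exists_isPullback i hU θ ⊥ hK
    let tt : Spec (CommRingCat.of C) ⟶ X := Spec.map (CommRingCat.ofHom θ) ≫ hU.fromSpec
    have htt : IsOpenImmersion tt := by
      have : IsOpenImmersion (Spec.map (CommRingCat.ofHom θ)) := Scheme.isOpenImmersion_SpecMap_localizationAway s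
      infer_instance
    have hbo : IsOpenImmersion b := MorphismProperty.of_isPullback hb.flip htt
    let μ : CommRingCat.of C ≅ CommRingCat.of (C ⧸ (⊥ : Ideal C)) :=
      (RingEquiv.quotientBot C).symm.toCommRingCatIso
    have hmk : IsIso (Spec.map (CommRingCat.ofHom (Ideal.Quotient.mk (⊥ : Ideal C)))) := by
      have h3 : CommRingCat.ofHom (Ideal.Quotient.mk (⊥ : Ideal C)) = μ.hom := rfl
      rw [h3]
      infer_instance
    have hqr : q ∈ Set.range (Spec.map (CommRingCat.ofHom θ)) := by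
      change q ∈ Set.range (PrimeSpectrum.comap (algebraMap _ (Localization.Away s)))
      rw [PrimeSpectrum.localization_away_comap_range (Localization.Away s) s]
      exact hs
    obtain ⟨z, -⟩ := hqr
    have hne : Nonempty (Spec (CommRingCat.of (C ⧸ (⊥ : Ideal C)))) :=
      ⟨inv (Spec.map (CommRingCat.ofHom (Ideal.Quotient.mk (⊥ : Ideal C)))) z⟩
    have e := relDim_eq f (m + 1) m hf (Spec.map (CommRingCat.ofHom (Ideal.Quotient.mk (⊥ : Ideal C))) ≫ tt) b (i ≫ f) hh
      ((congrArg (fun k => k ≫ f) hb.w).symm.trans (Category.assoc _ _ _))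
    omega
  · let C : CommRingCat.{u} := CommRingCat.of (Localization.Away g)
    let χ : Γ(X, U) ⟶ C := CommRingCat.ofHom (algebraMap Γ(X, U) (Localization.Away g))
    let tt : Spec C ⟶ X := Spec.map χ ≫ hU.fromSpec
    have htt : IsOpenImmersion tt := by
      have : IsOpenImmersion (Spec.map χ) := Scheme.isOpenImmersion_SpecMap_localizationAway g
      infer_instance
    let φ : Γ(S, V) ⟶ C := f.appLE V U hUV ≫ χ
    have htf : tt ≫ f = Spec.map φ ≫ hV.fromSpec := by
      simp only [tt, φ, Category.assoc, Spec.map_comp]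
      rw [hV.SpecMap_appLE_fromSpec f hU hUV]
    let W : X.Opens := tt.opensRange
    let e : Spec C ≅ (W : Scheme.{u}) := tt.isoOpensRange
    have he' : e.inv ≫ tt = W.ι := tt.isoOpensRange_inv_comp
    let σ : ULift.{u} (Fin (m' + 1)) ≃ Fin m' ⊕ Fin 1 := Equiv.ulift.trans finSumFinEquiv.symm
    let v₀ : ULift.{u} (Fin (m' + 1)) → C := fun a => Sum.elim (fun k => χ (c k)) (fun _ => χ tU) (σ a)
    have hπ₀ : Etale (AffineSpace.homOfVector (Spec.map φ ≫ hV.fromSpec) (fun a => (Scheme.ΓSpecIso C).inv (v₀ a)) :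
        Spec C ⟶ 𝔸(ULift.{u} (Fin (m' + 1)); S)) := by
      refine Flat2D.AffVec.etale_homOfVector hV.fromSpec φ v₀ ?_
      have h3 : MvPolynomial.eval₂Hom φ.hom v₀ = (χ.hom.comp
          (MvPolynomial.aeval (Sum.elim c fun _ : Fin 1 => tU) :
            MvPolynomial (Fin m' ⊕ Fin 1) Γ(S, V) →ₐ[Γ(S, V)] Γ(X, U)).toRingHom).comp
          (MvPolynomial.renameEquiv Γ(S, V) σ).toRingEquiv.toRingHom := by
        apply MvPolynomial.ringHom_ext
        · intro a
          simp [MvPolynomial.eval₂Hom, φ, hRB]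
        · intro a
          simp only [MvPolynomial.eval₂Hom_X', v₀]
          have h4 : (MvPolynomial.renameEquiv Γ(S, V) σ).toRingEquiv.toRingHom (MvPolynomial.X a) =
              MvPolynomial.X (σ a) := MvPolynomial.rename_X _ _
          rw [RingHom.comp_apply, h4, RingHom.comp_apply]
          have h5 : (MvPolynomial.aeval (Sum.elim c fun _ : Fin 1 => tU) :
              MvPolynomial (Fin m' ⊕ Fin 1) Γ(S, V) →ₐ[Γ(S, V)] Γ(X, U)).toRingHom (MvPolynomial.X (σ a)) =
              Sum.elim c (fun _ : Fin 1 => tU) (σ a) := MvPolynomial.aeval_X _ _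
          rw [h5]
          rcases σ a with k | k <;> rfl
      rw [h3]
      exact RingHom.Etale.stableUnderComposition _ _ (RingHom.Etale.of_bijective
        (MvPolynomial.renameEquiv Γ(S, V) σ).bijective) het
    refine ⟨W, ?_, m' + 1, fun a => e.inv.appTop ((Scheme.ΓSpecIso C).inv (v₀ a)),
      fun _ => finSumFinEquiv (Sum.inr 0), ?_, ?_, ?_⟩
    · have hqr : q ∈ Set.range (Spec.map χ) := by
        change q ∈ Set.range (PrimeSpectrum.comap (algebraMap _ (Localization.Away g)))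
        rw [PrimeSpectrum.localization_away_comap_range (Localization.Away g) g]
        exact hg
      obtain ⟨z, hz⟩ := hqr
      exact ⟨z, by rw [Scheme.Hom.comp_apply, hz, hq]⟩
    · rintro ⟨a, ha⟩ ⟨b, hb⟩ -
      exact Subtype.ext (Subsingleton.elim _ _)
    · have h3 : W.ι ≫ f = e.inv ≫ Spec.map φ ≫ hV.fromSpec := by
        rw [← he', Category.assoc, htf]
      rw [h3]
      have h4 := AffineSpace.comp_homOfVector (fun a => (Scheme.ΓSpecIso C).inv (v₀ a)) e.inv
        (Spec.map φ ≫ hV.fromSpec)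
      have h5 : (fun a => e.inv.appTop ((Scheme.ΓSpecIso C).inv (v₀ a))) =
        e.inv.appTop ∘ (fun a => (Scheme.ΓSpecIso C).inv (v₀ a)) := rfl
      rw [h5, ← h4]
      infer_instance
    · intro k
      rw [Pi1.H404.Chart.ι_appTop_apply, ← he', Scheme.Hom.comp_appTop, CommRingCat.comp_apply]
      have h3 : tt.appTop t = (Scheme.ΓSpecIso C).inv (χ tU) := by
        rw [Scheme.Hom.comp_appTop, CommRingCat.comp_apply, fromSpec_appTop]
        exact (congrArg (fun k => k tU) (Scheme.ΓSpecIso_inv_naturality χ)).symm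
      have h6 : v₀ ⟨finSumFinEquiv (Sum.inr 0)⟩ = χ tU := by
        change Sum.elim (fun k => χ (c k)) (fun _ => χ tU) (finSumFinEquiv.symm (finSumFinEquiv (Sum.inr 0))) = χ tU
        rw [Equiv.symm_apply_apply]
        rfl
      change e.inv.appTop ((Scheme.ΓSpecIso C).inv (v₀ ⟨finSumFinEquiv (Sum.inr 0)⟩)) = _
      rw [h3, h6]

end K154.PairSNC
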