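import Groth.Agent.Localalg.Kunz
import Groth.Agent.Localalg.Frob2
import Groth.Agent.Localalg.SocPow
import Mathlib.Algebra.Category.ModuleCat.ChangeOfRings
import Mathlib.RingTheory.Derivation.Basic
import Mathlib.LinearAlgebra.TensorProduct.Free
import Mathlib.LinearAlgebra.TensorProduct.Tower
import Mathlib.LinearAlgebra.TensorProduct.Quotient

/-!
# From top Čech relations to generation by the maximal ideal

Two module-theoretic statements: if `(∏ x_i)^N u ∈ (x_i^{N+1}) M` then `u ∈ (x_i) M`, in the presence of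
derivations dual to the `x_i` (characteristic zero) or of a Frobenius structure (characteristic `p`).
-/

set_option autoImplicit false
universe u

open scoped TensorProduct

namespace K154.PowDer

section Der

variable {P : Type u} [CommRing P] {M : Type u} [AddCommGroup M] [Module P M]

theorem map_smul_le {θ : P →+ P} {D : M →+ M} (hD : ∀ (a : P) (m : M), D (a • m) = θ a • m + a • D m)
    (I J : Ideal P) (hIJ : I ≤ J) (h : ∀ a ∈ I, θ a ∈ J) (y : M) (hy : y ∈ I • (⊤ : Submodule P M)) :
    D y ∈ J • (⊤ : Submodule P M) := by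
  refine Submodule.smul_induction_on hy ?_ ?_
  · intro a ha m _
    rw [hD]
    exact add_mem (Submodule.smul_mem_smul (h a ha) trivial) (Submodule.smul_mem_smul (hIJ ha) trivial)
  · intro a b ha hb
    rw [map_add]
    exact add_mem ha hb

theorem theta_pow {θ : P →+ P} (hθ : ∀ a b, θ (a * b) = a * θ b + θ a * b) (x : P) (n : ℕ) :
    θ (x ^ (n + 1)) = (n + 1 : ℕ) * x ^ n * θ x := by
  induction n with
  | zero => simp
  | succ n ih =>
    rw [pow_succ, hθ, ih]
    push_cast
    ring

theorem theta_one {θ : P →+ P} (hθ : ∀ a b, θ (a * b) = a * θ b + θ a * b) : θ 1 = 0 := by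
  have := hθ 1 1
  rw [mul_one, one_mul, mul_one] at this
  exact left_eq_add.mp this

theorem span_stable {θ : P →+ P} (hθ : ∀ a b, θ (a * b) = a * θ b + θ a * b) (s : Set P) (J : Ideal P)
    (hs : Ideal.span s ≤ J) (h : ∀ a ∈ s, θ a ∈ J) : ∀ a ∈ Ideal.span s, θ a ∈ J := by
  intro a ha
  have key : θ a ∈ J ∧ a ∈ Ideal.span s := by
    refine Submodule.span_induction (p := fun a _ => θ a ∈ J ∧ a ∈ Ideal.span s) ?_ ?_ ?_ ?_ ha
    · exact fun a ha => ⟨h a ha, Ideal.subset_span ha⟩
    · rw [map_zero]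
      exact ⟨J.zero_mem, Ideal.zero_mem _⟩
    · intro a b _ _ ha hb
      rw [map_add]
      exact ⟨J.add_mem ha.1 hb.1, Ideal.add_mem _ ha.2 hb.2⟩
    · intro r a _ ha
      rw [smul_eq_mul, hθ]
      exact ⟨J.add_mem (J.mul_mem_left _ ha.1) (J.mul_mem_left _ (hs ha.2)), Ideal.mul_mem_left _ _ ha.2⟩
  exact key.1

/-- One variable. -/
theorem step {θ : P →+ P} (hθ : ∀ a b, θ (a * b) = a * θ b + θ a * b)
    {D : M →+ M} (hD : ∀ (a : P) (m : M), D (a • m) = θ a • m + a • D m)
    (hinv : ∀ n : ℕ, IsUnit ((n + 1 : ℕ) : P))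
    (s : Set P) (hs : ∀ a ∈ s, θ a = 0) (x : P) (hx : θ x = 1) (b : ℕ) (w : M)
    (hw : x ^ b • w ∈ (Ideal.span (insert (x ^ (b + 1)) s)) • (⊤ : Submodule P M)) :
    w ∈ (Ideal.span (insert x s)) • (⊤ : Submodule P M) := by
  induction b with
  | zero => simpa using hw
  | succ b ih =>
    apply ih
    have hmem : x ^ (b + 1) ∈ Ideal.span (insert (x ^ (b + 1)) s) :=
      Ideal.subset_span (Set.mem_insert _ _)
    have hle : Ideal.span (insert (x ^ (b + 1 + 1)) s) ≤ Ideal.span (insert (x ^ (b + 1)) s) := by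
      rw [Ideal.span_le]
      intro y hy
      rcases Set.mem_insert_iff.mp hy with rfl | hy
      · have h := Ideal.mul_mem_right x _ hmem
        rwa [← pow_succ] at h
      · exact Ideal.subset_span (Set.mem_insert_of_mem _ hy)
    have h1 := map_smul_le hD _ (Ideal.span (insert (x ^ (b + 1)) s)) hle
      (span_stable hθ _ _ hle (by
        intro a ha
        rcases Set.mem_insert_iff.mp ha with rfl | ha
        · rw [theta_pow hθ, hx, mul_one]
          exact Ideal.mul_mem_left _ _ hmem
        · rw [hs a ha]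
          exact Ideal.zero_mem _)) _ hw
    rw [hD, theta_pow hθ, hx, mul_one] at h1
    have h2 : x ^ (b + 1) • D w ∈ Ideal.span (insert (x ^ (b + 1)) s) • (⊤ : Submodule P M) :=
      Submodule.smul_mem_smul hmem trivial
    have h3 := (Submodule.add_mem_iff_left _ h2).mp h1
    obtain ⟨u, hu⟩ := (hinv b).exists_left_inv
    have h4 := Submodule.smul_mem _ u h3
    rwa [smul_smul, ← mul_assoc, hu, one_mul] at h4

/-- All variables. -/
theorem main {n : ℕ} (x : Fin n → P) (θ : Fin n → P →+ P)
    (hθ : ∀ i a b, θ i (a * b) = a * θ i b + θ i a * b)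
    (hδ : ∀ i j, θ i (x j) = if i = j then 1 else 0)
    (D : Fin n → M →+ M) (hD : ∀ i (a : P) (m : M), D i (a • m) = θ i a • m + a • D i m)
    (hinv : ∀ n : ℕ, IsUnit ((n + 1 : ℕ) : P)) (N : ℕ) (u : M)
    (hu : (∏ i, x i) ^ N • u ∈ (Ideal.span (Set.range fun i => x i ^ (N + 1))) • (⊤ : Submodule P M)) :
    u ∈ (Ideal.span (Set.range x)) • (⊤ : Submodule P M) := by
  classical
  let f : Finset (Fin n) → Fin n → P := fun S i => if i ∈ S then x i ^ (N + 1) else x i
  have key : ∀ S : Finset (Fin n),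
      (∏ i ∈ S, x i) ^ N • u ∈ (Ideal.span (Set.range (f S))) • (⊤ : Submodule P M) →
      u ∈ (Ideal.span (Set.range x)) • (⊤ : Submodule P M) := by
    intro S
    induction S using Finset.induction_on with
    | empty =>
      intro h
      simpa [f] using h
    | insert i S hi ih =>
      intro h
      apply ih
      rw [Finset.prod_insert hi, mul_pow, mul_smul] at h
      let s : Set P := f S '' {i}ᶜ
      have hrange : ∀ g : Fin n → P, Set.range g = insert (g i) (g '' {i}ᶜ) := by
        intro g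
        ext y
        constructor
        · rintro ⟨k, rfl⟩
          by_cases hk : k = i
          · rw [hk]; exact Set.mem_insert _ _
          · exact Set.mem_insert_of_mem _ ⟨k, hk, rfl⟩
        · intro hy
          rcases Set.mem_insert_iff.mp hy with rfl | ⟨k, _, rfl⟩
          · exact ⟨i, rfl⟩
          · exact ⟨k, rfl⟩
      have e1 : Set.range (f (insert i S)) = insert (x i ^ (N + 1)) s := by
        rw [hrange]
        congr 1
        · simp [f]
        · apply Set.image_congr
          intro k hk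
          have : k ≠ i := hk
          simp [f, this]
      have e2 : Set.range (f S) = insert (x i) s := by
        rw [hrange]
        congr 1
        simp [f, hi]
      rw [e1] at h
      rw [e2]
      refine step (hθ i) (hD i) hinv s ?_ (x i) (by rw [hδ, if_pos rfl]) N _ h
      rintro _ ⟨k, hk, rfl⟩
      have hk' : i ≠ k := fun h => hk h.symm
      have h0 : θ i (x k) = 0 := by rw [hδ, if_neg hk']
      by_cases hkS : k ∈ S
      · simp only [f, if_pos hkS]
        rw [theta_pow (hθ i), h0, mul_zero]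
      · simp only [f, if_neg hkS, h0]
  exact key Finset.univ (by simpa [f] using hu)

end Der

section Frob

open Groth.Agent.Localalg.Lech Groth.Agent.Localalg.Kunz

/-- The product of powers of independent elements. -/
theorem prod_notMem {R : Type u} [CommRing R] {n : ℕ} (x : Fin n → R) (N : ℕ)
    (hx : Ideal.span (Set.range x) ≠ ⊤) (hind : Indep (fun i => x i ^ (N + 1))) :
    (∏ i, x i) ^ N ∉ Ideal.span (Set.range fun i => x i ^ (N + 1)) := by
  classical
  let f : Finset (Fin n) → Fin n → R := fun S i => if i ∈ S then x i ^ (N + 1) else x i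
  have hindep : ∀ S : Finset (Fin n), Indep (f Sᶜ) := by
    intro S
    induction S using Finset.induction_on with
    | empty => simpa [f] using hind
    | insert i S hi ih =>
      have e1 : f Sᶜ = Function.update (f (insert i S)ᶜ) i (x i ^ (N + 1)) := by
        funext j
        by_cases hj : j = i
        · subst hj; simp [f, hi]
        · simp [f, hj]
      have e2 : f (insert i S)ᶜ = Function.update (f (insert i S)ᶜ) i (x i) := by
        funext j
        by_cases hj : j = i
        · subst hj; simp [f]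
        · simp [f, hj]
      rw [e1] at ih
      have h1 := ih.update i (x i) (x i ^ N) (by rw [Function.update_self]; ring)
      rw [Function.update_idem, ← e2] at h1
      exact h1
  have key : ∀ S : Finset (Fin n), (∏ i ∈ S, x i) ^ N ∈ Ideal.span (Set.range (f S)) →
      (1 : R) ∈ Ideal.span (Set.range x) := by
    intro S
    induction S using Finset.induction_on with
    | empty =>
      intro h
      simpa [f] using h
    | insert i S hi ih =>
      intro h
      apply ih
      rw [Finset.prod_insert hi, mul_pow] at h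
      have e1 : f (insert i S) = Function.update (f S) i (x i * x i ^ N) := by
        funext j
        by_cases hj : j = i
        · subst hj; simp [f, pow_succ']
        · simp [f, hj]
      have e2 : f S = Function.update (f S) i (x i) := by
        funext j
        by_cases hj : j = i
        · subst hj; simp [f, hi]
        · simp [f, hj]
      have h1 := hindep (insert i S)ᶜ
      rw [compl_compl, e1] at h1
      rw [e1] at h
      rw [e2]
      exact h1.mem_of_mul_mem i (x i) (x i ^ N) _ h
  intro h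
  exact hx ((Ideal.eq_top_iff_one _).mpr (key Finset.univ (by simpa [f] using h)))

/-- Freeness of the reduction, one step. -/
theorem free_step {A B : Type u} [CommRing A] [CommRing B] [Algebra A B] (I : Ideal A) (J : Ideal B)
    (hIJ : I ≤ J.comap (algebraMap A B)) (M N : Type u) [AddCommGroup M] [Module A M]
    [AddCommGroup N] [Module B N] (e : B ⊗[A] M ≃ₗ[B] N)
    (h : Module.Free (A ⧸ I) ((A ⧸ I) ⊗[A] M)) : Module.Free (B ⧸ J) ((B ⧸ J) ⊗[B] N) := by
  letI : Algebra (A ⧸ I) (B ⧸ J) := (Ideal.quotientMap J (algebraMap A B) hIJ).toAlgebra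
  haveI : IsScalarTower A (A ⧸ I) (B ⧸ J) := IsScalarTower.of_algebraMap_eq fun a => rfl
  let e1 : (B ⧸ J) ⊗[B] (B ⊗[A] M) ≃ₗ[B ⧸ J] (B ⧸ J) ⊗[A] M :=
    TensorProduct.AlgebraTensorModule.cancelBaseChange A B (B ⧸ J) (B ⧸ J) M
  let e2 : (B ⧸ J) ⊗[A ⧸ I] ((A ⧸ I) ⊗[A] M) ≃ₗ[B ⧸ J] (B ⧸ J) ⊗[A] M :=
    TensorProduct.AlgebraTensorModule.cancelBaseChange A (A ⧸ I) (B ⧸ J) (B ⧸ J) M
  let e3 : (B ⧸ J) ⊗[B] (B ⊗[A] M) ≃ₗ[B ⧸ J] (B ⧸ J) ⊗[B] N :=
    TensorProduct.AlgebraTensorModule.congr (LinearEquiv.refl _ _) e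
  exact Module.Free.of_equiv (e2.trans (e1.symm.trans e3))

theorem mem_smul_iff {R M : Type u} [CommRing R] [AddCommGroup M] [Module R M] (I : Ideal R) (u : M) :
    u ∈ I • (⊤ : Submodule R M) ↔ (1 : R ⧸ I) ⊗ₜ[R] u = 0 := by
  rw [← (TensorProduct.quotTensorEquivQuotSMul M I).map_eq_zero_iff,
    TensorProduct.quotTensorEquivQuotSMul_mk_one_tmul, Submodule.Quotient.mk_eq_zero]

/-- The Frobenius case. -/
theorem main_frob (p : ℕ) [Fact p.Prime] (R : Type u) [CommRing R] [IsRegularLocalRing R] [CharP R p]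
    {n : ℕ} (x : Fin n → R) (hx : Ideal.span (Set.range x) = IsLocalRing.maximalIdeal R)
    (hmin : ∀ a : Fin n → R, ∑ i, a i * x i = 0 → ∀ i, a i ∈ IsLocalRing.maximalIdeal R)
    (M : Type u) [AddCommGroup M] [Module R M]
    (h : Nonempty ((CategoryTheory.Functor.obj (ModuleCat.extendScalars (frobenius R p)) (ModuleCat.of R M)) ≅
      ModuleCat.of R M)) (N : ℕ) (u : M)
    (hu : (∏ i, x i) ^ N • u ∈ (Ideal.span (Set.range fun i => x i ^ (N + 1))) • (⊤ : Submodule R M)) :
    u ∈ (IsLocalRing.maximalIdeal R) • (⊤ : Submodule R M) := by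
  classical
  obtain ⟨h⟩ := h
  let F := frobenius R p
  have hF : F.Flat := frobenius_flat_of_isRegularLocalRing p R
  let I : ℕ → Ideal R := fun k => (IsLocalRing.maximalIdeal R).map (iterateFrobenius R p k)
  have hI0 : I 0 = IsLocalRing.maximalIdeal R := by
    change (IsLocalRing.maximalIdeal R).map (iterateFrobenius R p 0) = _
    rw [iterateFrobenius_zero, Ideal.map_id]
  have hIs : ∀ k, I (k + 1) = (I k).map F := by
    intro k
    have : iterateFrobenius R p (k + 1) = F.comp (iterateFrobenius R p k) := by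
      ext x
      simp [F, iterateFrobenius_def, frobenius_def, pow_succ, pow_mul]
    change (IsLocalRing.maximalIdeal R).map (iterateFrobenius R p (k + 1)) = _
    rw [this, ← Ideal.map_map]
  have hp2 := (Fact.out : p.Prime).two_le
  have hfree : ∀ k, Module.Free (R ⧸ I k) ((R ⧸ I k) ⊗[R] M) := by
    intro k
    induction k with
    | zero =>
      rw [hI0]
      letI := Ideal.Quotient.field (IsLocalRing.maximalIdeal R)
      infer_instance
    | succ k ih =>
      exact @free_step R R _ _ F.toAlgebra (I k) (I (k + 1)) (by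
        rw [hIs]
        exact Ideal.le_comap_map) M M _ _ _ _ h.toLinearEquiv ih
  -- choose the exponent
  obtain ⟨k, hk⟩ : ∃ k, N + 1 ≤ p ^ k := ⟨N + 1, (Nat.lt_pow_self (by omega)).le⟩
  obtain ⟨q, hq⟩ : ∃ q, p ^ k = q + 1 := ⟨p ^ k - 1, by omega⟩
  have hNq : N ≤ q := by omega
  have hfun : (⇑(iterateFrobenius R p k) ∘ x) = fun i => x i ^ (q + 1) := by
    funext i
    simp [iterateFrobenius_def, hq]
  have hind : Indep (fun i => x i ^ (q + 1)) := by
    have := indep_of_flat _ (flat_iterateFrobenius p R hF k) x hx hmin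
    simpa [iterateFrobenius_def, hq] using this
  have hIk : Ideal.span (Set.range (fun i => x i ^ (q + 1))) = I k := by
    change _ = (IsLocalRing.maximalIdeal R).map (iterateFrobenius R p k)
    rw [← hx, Ideal.map_span, ← Set.range_comp, hfun]
  have hs : (∏ i, x i) ^ q ∉ I k := by
    rw [← hIk]
    refine prod_notMem x q ?_ hind
    rw [hx]
    exact (IsLocalRing.maximalIdeal.isMaximal R).ne_top
  have hu' : (∏ i, x i) ^ q • u ∈ I k • (⊤ : Submodule R M) := by
    obtain ⟨m, rfl⟩ := Nat.exists_eq_add_of_le' hNq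
    rw [pow_add, mul_smul, ← hIk]
    refine Submodule.smul_induction_on hu ?_ ?_
    · intro a ha y _
      rw [smul_smul]
      refine Submodule.smul_mem_smul ?_ trivial
      refine Submodule.span_induction (p := fun a _ => (∏ i, x i) ^ m * a ∈
        Ideal.span (Set.range (fun i => x i ^ (m + N + 1)))) ?_ ?_ ?_ ?_ ha
      · rintro _ ⟨i, rfl⟩
        rw [← Finset.mul_prod_erase Finset.univ x (Finset.mem_univ i)]
        have h1 : x i ^ (m + N + 1) ∈ Ideal.span (Set.range (fun i => x i ^ (m + N + 1))) :=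
          Ideal.subset_span ⟨i, rfl⟩
        have h2 := Ideal.mul_mem_left _ ((∏ j ∈ Finset.univ.erase i, x j) ^ m) h1
        convert h2 using 1
        ring
      · rw [mul_zero]
        exact Ideal.zero_mem _
      · intro a b _ _ ha hb
        rw [mul_add]
        exact add_mem ha hb
      · intro r a _ ha
        rw [smul_eq_mul, mul_left_comm]
        exact Ideal.mul_mem_left _ _ ha
    · intro a b ha hb
      rw [smul_add]
      exact add_mem ha hb
  haveI := hfree k
  let b := Module.Free.chooseBasis (R ⧸ I k) ((R ⧸ I k) ⊗[R] M)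
  have hle : I k ≤ IsLocalRing.maximalIdeal R := by
    rw [← hIk, Ideal.span_le]
    rintro _ ⟨i, rfl⟩
    refine Ideal.pow_mem_of_mem _ ?_ _ (Nat.succ_pos q)
    rw [← hx]
    exact Ideal.subset_span ⟨i, rfl⟩
  let π : (R ⧸ I k) →ₗ[R] (R ⧸ IsLocalRing.maximalIdeal R) :=
    (Ideal.Quotient.factorₐ R hle).toLinearMap
  let φ : (R ⧸ I k) ⊗[R] M →ₗ[R] (R ⧸ IsLocalRing.maximalIdeal R) ⊗[R] M := π.rTensor M
  have hφ : ∀ (a : R) (ha : a ∈ IsLocalRing.maximalIdeal R) (y : (R ⧸ I k) ⊗[R] M), φ (a • y) = 0 := by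
    intro a ha y
    rw [map_smul]
    induction φ y using TensorProduct.induction_on with
    | zero => rw [smul_zero]
    | tmul c m =>
      obtain ⟨c, rfl⟩ := Ideal.Quotient.mk_surjective c
      rw [TensorProduct.smul_tmul']
      have : a • (Ideal.Quotient.mk (IsLocalRing.maximalIdeal R) c) = 0 := by
        change Ideal.Quotient.mk (IsLocalRing.maximalIdeal R) (a * c) = 0
        exact Ideal.Quotient.eq_zero_iff_mem.mpr (Ideal.mul_mem_right _ _ ha)
      rw [this, TensorProduct.zero_tmul]
    | add y z hy hz => rw [smul_add, hy, hz, add_zero]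
  rw [mem_smul_iff] at hu' ⊢
  have h1 : φ ((1 : R ⧸ I k) ⊗ₜ[R] u) = (1 : R ⧸ IsLocalRing.maximalIdeal R) ⊗ₜ[R] u := by
    simp [φ, π]
  rw [← h1, ← b.linearCombination_repr ((1 : R ⧸ I k) ⊗ₜ[R] u), Finsupp.linearCombination_apply,
    Finsupp.sum, map_sum]
  refine Finset.sum_eq_zero fun i _ => ?_
  obtain ⟨a, ha⟩ := Ideal.Quotient.mk_surjective (b.repr ((1 : R ⧸ I k) ⊗ₜ[R] u) i)
  have h2 : (Ideal.Quotient.mk (I k) ((∏ i, x i) ^ q)) • ((1 : R ⧸ I k) ⊗ₜ[R] u) = 0 := by
    rw [TensorProduct.smul_tmul', smul_eq_mul, mul_one, ← mul_one (Ideal.Quotient.mk (I k) ((∏ i, x i) ^ q))]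
    change ((∏ i, x i) ^ q • (1 : R ⧸ I k)) ⊗ₜ[R] u = 0
    rw [TensorProduct.smul_tmul]
    exact hu'
  have h3 : Ideal.Quotient.mk (I k) ((∏ i, x i) ^ q) * Ideal.Quotient.mk (I k) a = 0 := by
    have := congrArg (fun v => b.repr v i) h2
    simp only [map_smul, Finsupp.smul_apply, map_zero, Finsupp.zero_apply, smul_eq_mul] at this
    rwa [ha]
  have ham : a ∈ IsLocalRing.maximalIdeal R := by
    by_contra hna
    have hunit : IsUnit a := by
      by_contra hnu
      exact hna ((IsLocalRing.mem_maximalIdeal a).mpr hnu)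
    have h4 := (hunit.map (Ideal.Quotient.mk (I k))).mul_left_eq_zero.mp h3
    exact hs (Ideal.Quotient.eq_zero_iff_mem.mp h4)
  rw [← ha]
  exact hφ a ham (b i)

end Frob

end K154.PowDer
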