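import Groth.Agent.Pi1.K154.InjMain
import Groth.Agent.Pi1.K154.CechPow
import Groth.Agent.Pi1.K154.PowDer
import Groth.Agent.CurvesB.HZero
import Groth.Agent.S1574
import Mathlib.RingTheory.Ideal.KrullsHeightTheorem
import Mathlib.Algebra.Module.SpanRank

/-!
# Affineness of schemes étale over the punctured spectrum from vanishing of top cohomology
-/

set_option autoImplicit false
universe u

open CategoryTheory CategoryTheory.Limits AlgebraicGeometry Opposite TopologicalSpace
open scoped TensorProduct

namespace K154.PunctAff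

open Groth.Agent.CurvesB.HZero

theorem dim_le {A : Type u} [CommRing A] [IsNoetherianRing A] [IsLocalRing A] {n : ℕ} (x : Fin n → A)
    (h : Ideal.span (Set.range x) = IsLocalRing.maximalIdeal A) : ringKrullDim A ≤ (n : ℕ) := by
  refine (ringKrullDim_le_spanFinrank_maximalIdeal (R := A)).trans ?_
  rw [← h]
  have h1 : (Ideal.span (Set.range x)).spanFinrank ≤ n := by
    refine (Submodule.spanFinrank_span_le_ncard_of_finite (Set.finite_range x)).trans ?_
    rw [← Set.image_univ]
    refine (Set.ncard_image_le Set.finite_univ).trans ?_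
    simp
  exact_mod_cast h1

/-- `Coh.toGlobal` and basic opens. -/
theorem basicOpen_toGlobal {R : Type u} [CommRing R] {X : Scheme.{u}}
    (p : X ⟶ Spec (CommRingCat.of R)) (r : R) :
    X.basicOpen (show Γ(X, ⊤) from Coh.toGlobal p r) = p ⁻¹ᵁ (PrimeSpectrum.basicOpen r) := by
  have h2 : X.basicOpen (show Γ(X, ⊤) from Coh.toGlobal p r) =
    p ⁻¹ᵁ ((Spec (CommRingCat.of R)).basicOpen ((Scheme.ΓSpecIso (CommRingCat.of R)).inv.hom r)) :=
    (Scheme.preimage_basicOpen_top p _).symm
  rw [h2]
  congr 1
  exact basicOpen_eq_of_affine (R := CommRingCat.of R) r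

variable {A : Type u} [CommRing A] [IsLocalRing A] {V : Scheme.{u}}

/-- Basic opens at elements of the maximal ideal are affine. -/
theorem isAffineOpen_basicOpen (f : V ⟶ Spec (CommRingCat.of A))
    (g : V ⟶ (FEt.puncturedSpec A : Scheme.{u})) (hg : g ≫ (FEt.puncturedSpec A).ι = f) [IsAffineHom g]
    (a : A) (ha : a ∈ IsLocalRing.maximalIdeal A) :
    IsAffineOpen (V.basicOpen (show Γ(V, ⊤) from Coh.toGlobal f a)) := by
  rw [basicOpen_toGlobal]
  have h1 : IsAffineOpen (X := Spec (CommRingCat.of A)) (PrimeSpectrum.basicOpen a) :=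
    IsAffineOpen.Spec_basicOpen (R := CommRingCat.of A) a
  have h2 : (PrimeSpectrum.basicOpen a : (Spec (CommRingCat.of A)).Opens) ≤ (FEt.puncturedSpec A).ι.opensRange := by
    rw [Scheme.Opens.opensRange_ι]
    intro z hz hz'
    exact hz (by rw [show z = IsLocalRing.closedPoint A from hz']; exact ha)
  have h3 := (h1.preimage_of_isOpenImmersion (FEt.puncturedSpec A).ι h2).preimage g
  rw [← hg]
  exact h3

/-- The basic opens at generators of the maximal ideal cover. -/
theorem exists_mem_basicOpen (f : V ⟶ Spec (CommRingCat.of A))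
    (g : V ⟶ (FEt.puncturedSpec A : Scheme.{u})) (hg : g ≫ (FEt.puncturedSpec A).ι = f)
    {n : ℕ} (x : Fin n → A) (hx : IsLocalRing.maximalIdeal A ≤ Ideal.span (Set.range x)) (v : V) :
    ∃ i, v ∈ V.basicOpen (show Γ(V, ⊤) from Coh.toGlobal f (x i)) := by
  by_contra hcon
  push Not at hcon
  have h1 : ∀ i, x i ∈ (show PrimeSpectrum A from f v).asIdeal := by
    intro i
    have h2 := hcon i
    rw [basicOpen_toGlobal] at h2
    by_contra h3
    exact h2 h3
  have h2 : IsLocalRing.maximalIdeal A ≤ (show PrimeSpectrum A from f v).asIdeal :=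
    hx.trans (Ideal.span_le.mpr (by rintro _ ⟨i, rfl⟩; exact h1 i))
  have h3 : (show PrimeSpectrum A from f v) = IsLocalRing.closedPoint A := by
    apply PrimeSpectrum.ext
    exact ((IsLocalRing.maximalIdeal.isMaximal A).eq_of_le (show PrimeSpectrum A from f v).2.ne_top h2).symm
  have h4 : f v ∈ FEt.puncturedSpec A := by
    rw [← hg]
    exact (g v).2
  exact h4 h3

theorem mem_punctured (f : V ⟶ Spec (CommRingCat.of A))
    (g : V ⟶ (FEt.puncturedSpec A : Scheme.{u})) (hg : g ≫ (FEt.puncturedSpec A).ι = f) (v : V) :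
    f v ∈ FEt.puncturedSpec A := by
  rw [← hg]
  exact (g v).2

/-- The base change to a local algebra with `m_A P = m_P` is affine over the punctured spectrum. -/
theorem exists_punctured {P : Type u} [CommRing P] [IsLocalRing P] (φ : A →+* P)
    (hP : (IsLocalRing.maximalIdeal A).map φ = IsLocalRing.maximalIdeal P)
    (f : V ⟶ Spec (CommRingCat.of A))
    (g : V ⟶ (FEt.puncturedSpec A : Scheme.{u})) (hg : g ≫ (FEt.puncturedSpec A).ι = f) [IsAffineHom g] :
    ∃ g' : pullback f (Spec.map (CommRingCat.ofHom φ)) ⟶ (FEt.puncturedSpec P : Scheme.{u}),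
      g' ≫ (FEt.puncturedSpec P).ι = pullback.snd f (Spec.map (CommRingCat.ofHom φ)) ∧ IsAffineHom g' := by
  let q := Spec.map (CommRingCat.ofHom φ)
  have hU : q ⁻¹ᵁ (FEt.puncturedSpec A) = FEt.puncturedSpec P := by
    ext z
    change ¬ (PrimeSpectrum.comap φ z = IsLocalRing.closedPoint A) ↔ ¬ (z = IsLocalRing.closedPoint P)
    refine not_congr ⟨fun h => ?_, fun h => ?_⟩
    · apply PrimeSpectrum.ext
      refine ((IsLocalRing.maximalIdeal.isMaximal P).eq_of_le z.2.ne_top ?_).symm
      rw [← hP, Ideal.map_le_iff_le_comap]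
      exact (congrArg PrimeSpectrum.asIdeal h).ge
    · rw [h]
      apply PrimeSpectrum.ext
      refine ((IsLocalRing.maximalIdeal.isMaximal A).eq_of_le
        (PrimeSpectrum.comap φ (IsLocalRing.closedPoint P)).2.ne_top ?_).symm
      change IsLocalRing.maximalIdeal A ≤ Ideal.comap φ (IsLocalRing.maximalIdeal P)
      rw [← Ideal.map_le_iff_le_comap]
      exact hP.le
  have hr : Set.range (pullback.snd f q) ⊆ Set.range (q ⁻¹ᵁ (FEt.puncturedSpec A)).ι := by
    rw [Scheme.Opens.range_ι]
    rintro _ ⟨z, rfl⟩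
    change q (pullback.snd f q z) ∈ FEt.puncturedSpec A
    rw [← Scheme.Hom.comp_apply, ← pullback.condition, Scheme.Hom.comp_apply]
    exact mem_punctured f g hg _
  let g'' := IsOpenImmersion.lift (q ⁻¹ᵁ (FEt.puncturedSpec A)).ι (pullback.snd f q) hr
  have hg'' : g'' ≫ (q ⁻¹ᵁ (FEt.puncturedSpec A)).ι = pullback.snd f q := IsOpenImmersion.lift_fac _ _ _
  have key : ∃ g' : pullback f q ⟶ (q ⁻¹ᵁ (FEt.puncturedSpec A) : Scheme.{u}),
      g' ≫ (q ⁻¹ᵁ (FEt.puncturedSpec A)).ι = pullback.snd f q ∧ IsAffineHom g' := by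
    refine ⟨g'', hg'', ?_⟩
    have h1 : IsPullback (pullback.fst f q) (g'' ≫ (q ⁻¹ᵁ (FEt.puncturedSpec A)).ι)
        (g ≫ (FEt.puncturedSpec A).ι) q := by
      rw [hg'', hg]
      exact IsPullback.of_hasPullback f q
    have h2 := IsPullback.of_bot h1 (by
      rw [← cancel_mono (FEt.puncturedSpec A).ι, Category.assoc, Category.assoc, hg, morphismRestrict_ι,
        ← Category.assoc, hg'', pullback.condition]) (isPullback_morphismRestrict q (FEt.puncturedSpec A))
    exact MorphismProperty.of_isPullback h2 inferInstance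
  rw [hU] at key
  exact key

omit [IsLocalRing A] in
theorem e0_smul [V.Over (Spec (CommRingCat.of A))] (t : A) (y : Coh.HH V (Coh.structureModule V) 0) :
    equivO V (t • y) = gl A V t * equivO V y :=
  equivAdd_smul_over (Coh.structureModule V) t y

omit [IsLocalRing A] in
/-- The top Čech relation on degree zero cohomology. -/
theorem exists_pow [V.Over (Spec (CommRingCat.of A))] [CompactSpace V] [QuasiSeparatedSpace V] {n : ℕ}
    (hn : 2 ≤ n) (x : Fin n → A)
    (haff : ∀ i, IsAffineOpen (V.basicOpen (gl A V (x i))))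
    (hcov : ∀ v : V, ∃ i, v ∈ V.basicOpen (gl A V (x i)))
    (hH : Subsingleton (Coh.HH V (Coh.structureModule V) (n - 1))) :
    ∃ N : ℕ, ∀ y : Coh.HH V (Coh.structureModule V) 0,
      (∏ i, x i) ^ N • y ∈ (Ideal.span (Set.range fun i => x i ^ (N + 1))) •
        (⊤ : Submodule A (Coh.HH V (Coh.structureModule V) 0)) := by
  obtain ⟨j, rfl⟩ : ∃ j, n = j + 2 := ⟨n - 2, by omega⟩
  let s : ℕ → Γ(V, ⊤) := fun i => if h : i < j + 2 then gl A V (x ⟨i, h⟩) else 0
  have hs : ∀ i : Fin (j + 2), s i = gl A V (x i) := fun i => dif_pos i.2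
  obtain ⟨N, b, hb⟩ := CechPow.main j s
    (fun i hi => by
      have := haff ⟨i, by omega⟩
      rwa [← hs] at this)
    (fun v => by
      obtain ⟨i, hi⟩ := hcov v
      refine ⟨i, by omega, ?_⟩
      rwa [hs]) hH
  refine ⟨N, fun y => ?_⟩
  rw [Finset.prod_range, Finset.sum_range] at hb
  simp only [hs] at hb
  have key : (∏ i, x i) ^ N • y = ∑ i : Fin (j + 2), x i ^ (N + 1) •
      (equivO V).symm (b i * equivO V y) := by
    apply (equivO V).injective
    rw [map_sum, e0_smul, map_pow, map_prod, hb, Finset.sum_mul]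
    refine Finset.sum_congr rfl fun i _ => ?_
    rw [e0_smul, AddEquiv.apply_symm_apply, map_pow, mul_assoc]
  rw [key]
  exact Submodule.sum_mem _ fun i _ => Submodule.smul_mem_smul (Ideal.subset_span ⟨i, rfl⟩) trivial

/-- If `H^0` is generated by the maximal ideal times itself then `V` is affine. -/
theorem isAffine_of_mem [V.Over (Spec (CommRingCat.of A))]
    (g : V ⟶ (FEt.puncturedSpec A : Scheme.{u})) (hg : g ≫ (FEt.puncturedSpec A).ι = V ↘ Spec (CommRingCat.of A))
    [IsAffineHom g]
    (h : (equivO V).symm 1 ∈ (IsLocalRing.maximalIdeal A) •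
      (⊤ : Submodule A (Coh.HH V (Coh.structureModule V) 0))) : IsAffine V := by
  have key : ∀ y ∈ (IsLocalRing.maximalIdeal A) • (⊤ : Submodule A (Coh.HH V (Coh.structureModule V) 0)),
      equivO V y ∈ (IsLocalRing.maximalIdeal A).map (gl A V) := by
    intro y hy
    refine Submodule.smul_induction_on hy ?_ ?_
    · intro a ha m _
      rw [e0_smul]
      exact Ideal.mul_mem_right _ _ (Ideal.mem_map_of_mem _ ha)
    · intro a b ha hb
      rw [map_add]
      exact add_mem ha hb
  have h1 := key _ h
  rw [AddEquiv.apply_symm_apply] at h1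
  refine isAffine_of_isAffineOpen_basicOpen ((gl A V) '' (IsLocalRing.maximalIdeal A : Set A))
    ((Ideal.eq_top_iff_one _).mpr h1) ?_
  rintro _ ⟨a, ha, rfl⟩
  exact isAffineOpen_basicOpen _ g hg a ha

/-- Affineness in dimension at most one. -/
theorem isAffine_of_dim_le_one [IsNoetherianRing A] (g : V ⟶ (FEt.puncturedSpec A : Scheme.{u}))
    [IsAffineHom g] (h : ringKrullDim A ≤ 1) : IsAffine V := by
  haveI := Groth.Agent.S1574.affine_of_dim_le_one A h
  exact isAffine_of_isAffineHom g

/-- Descent of `M = m M` along a faithfully flat local algebra with `m_A P = m_P`. -/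
theorem mem_of_tensor {A P : Type u} [CommRing A] [IsLocalRing A] [CommRing P] [IsLocalRing P]
    [Algebra A P] [Module.FaithfullyFlat A P]
    (hP : (IsLocalRing.maximalIdeal A).map (algebraMap A P) = IsLocalRing.maximalIdeal P)
    (M : Type u) [AddCommGroup M] [Module A M]
    (h : ∀ z : P ⊗[A] M, z ∈ IsLocalRing.maximalIdeal P • (⊤ : Submodule P (P ⊗[A] M))) (u : M) :
    u ∈ IsLocalRing.maximalIdeal A • (⊤ : Submodule A M) := by
  let K := A ⧸ IsLocalRing.maximalIdeal A
  let ψ : P ⊗[A] M →ₗ[P] P ⊗[A] (K ⊗[A] M) := (TensorProduct.mk A K M 1).baseChange P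
  have hψ : Function.Surjective ψ :=
    LinearMap.lTensor_surjective P (TensorProduct.mk_surjective A M K Ideal.Quotient.mk_surjective)
  have hkill : ∀ a ∈ IsLocalRing.maximalIdeal P, ∀ y : P ⊗[A] (K ⊗[A] M), a • y = 0 := by
    intro a ha y
    rw [← hP] at ha
    refine Submodule.span_induction (p := fun a _ => a • y = 0) ?_ ?_ ?_ ?_ ha
    · rintro _ ⟨b, hb, rfl⟩
      have hb' : ∀ c : K, b • c = 0 := by
        intro c
        obtain ⟨c, rfl⟩ := Ideal.Quotient.mk_surjective c
        change Ideal.Quotient.mk (IsLocalRing.maximalIdeal A) (b * c) = 0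
        exact Ideal.Quotient.eq_zero_iff_mem.mpr (Ideal.mul_mem_right _ _ hb)
      rw [algebraMap_smul]
      induction y using TensorProduct.induction_on with
      | zero => rw [smul_zero]
      | tmul p w =>
        rw [TensorProduct.smul_tmul', TensorProduct.smul_tmul]
        have : b • w = 0 := by
          induction w using TensorProduct.induction_on with
          | zero => rw [smul_zero]
          | tmul c m => rw [TensorProduct.smul_tmul', hb', TensorProduct.zero_tmul]
          | add w w' hw hw' => rw [smul_add, hw, hw', add_zero]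
        rw [this, TensorProduct.tmul_zero]
      | add w w' hw hw' => rw [smul_add, hw, hw', add_zero]
    · rw [zero_smul]
    · intro a b _ _ ha hb
      rw [add_smul, ha, hb, add_zero]
    · intro r a _ ha
      rw [smul_eq_mul, mul_smul, ha, smul_zero]
  have hz : ∀ z : P ⊗[A] M, ψ z = 0 := by
    intro z
    refine Submodule.smul_induction_on (p := fun z => ψ z = 0) (h z) ?_ ?_
    · intro a ha m _
      rw [map_smul, hkill a ha]
    · intro a b ha hb
      rw [map_add, ha, hb, add_zero]
  have hsub : Subsingleton (P ⊗[A] (K ⊗[A] M)) := by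
    refine ⟨fun y y' => ?_⟩
    obtain ⟨z, rfl⟩ := hψ y
    obtain ⟨z', rfl⟩ := hψ y'
    rw [hz, hz]
  have hsub' : Subsingleton (K ⊗[A] M) := Module.FaithfullyFlat.lTensor_reflects_triviality A P (K ⊗[A] M)
  rw [PowDer.mem_smul_iff]
  exact Subsingleton.elim (α := K ⊗[A] M) _ _

theorem main (A : Type u) [CommRing A] [IsRegularLocalRing A] (k : Type u) [Field k] [Algebra k A]
    (V : Scheme.{u}) [V.Over (Spec (CommRingCat.of A))]
    [Etale (V ↘ Spec (CommRingCat.of A))] [CompactSpace V] [QuasiSeparatedSpace V]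
    (g : V ⟶ (FEt.puncturedSpec A : Scheme.{u})) (hg : g ≫ (FEt.puncturedSpec A).ι = V ↘ Spec (CommRingCat.of A))
    [IsAffineHom g]
    (hv : ∀ i : ℕ, ringKrullDim A ≤ ((i + 1 : ℕ) : WithBot ℕ∞) → Subsingleton (Coh.HH V (Coh.structureModule V) i)) :
    IsAffine V := by
  by_cases hd : ringKrullDim A ≤ 1
  · exact isAffine_of_dim_le_one g hd
  refine isAffine_of_mem g hg ?_
  obtain ⟨p, hp⟩ := CharP.exists k
  rcases CharP.char_is_prime_or_zero k p with hp' | rfl
  · haveI : Fact p.Prime := ⟨hp'⟩
    haveI : CharP A p := charP_of_injective_algebraMap (algebraMap k A).injective p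
    obtain ⟨n, x, hx, hmin⟩ := Groth.Agent.Localalg.Kunz.exists_minimal_generators_maximalIdeal A
    have hdn := dim_le x hx
    have hn : 2 ≤ n := by
      by_contra h
      exact hd (hdn.trans (by exact_mod_cast (by omega : n ≤ 1)))
    have hxm : ∀ i, x i ∈ IsLocalRing.maximalIdeal A := fun i => by
      rw [← hx]
      exact Ideal.subset_span ⟨i, rfl⟩
    obtain ⟨N, hN⟩ := exists_pow hn x (fun i => isAffineOpen_basicOpen _ g hg _ (hxm i))
      (exists_mem_basicOpen _ g hg x hx.ge) (hv (n - 1) (by
        rw [show n - 1 + 1 = n by omega]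
        exact hdn))
    exact PowDer.main_frob p A x hx hmin _
      (InjSum.frob_iso p A (Groth.Agent.Localalg.Kunz.frobenius_flat_of_isRegularLocalRing p A) V 0) N _ (hN _)
  · haveI : CharZero k := CharP.charP_to_charZero k
    obtain ⟨hNoeth, n, x, θ, hxm, hspan, hθ⟩ := InjCpl.exists_char_zero A k
    let P := AdicCompletion (IsLocalRing.maximalIdeal A) A
    haveI hflat : Module.Flat A P := AdicCompletion.flat_of_isNoetherian _
    haveI hff : Module.FaithfullyFlat A P := Module.FaithfullyFlat.of_flat_of_isLocalHom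
    have hmax : (IsLocalRing.maximalIdeal A).map (algebraMap A P) = IsLocalRing.maximalIdeal P :=
      AdicCompletion.maximalIdeal_eq_map.symm
    have hspan' : Ideal.span (Set.range x) = IsLocalRing.maximalIdeal P :=
      le_antisymm (Ideal.span_le.mpr (by rintro _ ⟨i, rfl⟩; exact hxm i)) hspan
    have hdn : ringKrullDim A ≤ (n : ℕ) := by
      rw [← Groth.Agent.CalgB.RegCompletion.ringKrullDim_completion (A := A)]
      exact dim_le x hspan'
    have hn : 2 ≤ n := by
      by_contra h
      exact hd (hdn.trans (by exact_mod_cast (by omega : n ≤ 1)))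
    let q := Spec.map (CommRingCat.ofHom (algebraMap A P))
    let V' := pullback (V ↘ Spec (CommRingCat.of A)) q
    letI : V'.Over (Spec (CommRingCat.of P)) := ⟨pullback.snd _ q⟩
    haveI : Etale (V' ↘ Spec (CommRingCat.of P)) := inferInstanceAs (Etale (pullback.snd _ q))
    haveI : CompactSpace V' := by
      haveI : QuasiCompact (V ↘ Spec (CommRingCat.of A)) :=
        (quasiCompact_iff_compactSpace _).mpr inferInstance
      exact (quasiCompact_iff_compactSpace (pullback.snd (V ↘ Spec (CommRingCat.of A)) q)).mp inferInstance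
    haveI : QuasiSeparatedSpace V' := by
      haveI : QuasiSeparated (V ↘ Spec (CommRingCat.of A)) := inferInstance
      exact (quasiSeparated_iff_quasiSeparatedSpace (pullback.snd (V ↘ Spec (CommRingCat.of A)) q)).mp
        inferInstance
    obtain ⟨g', hg', hga⟩ := exists_punctured (algebraMap A P) hmax (V ↘ Spec (CommRingCat.of A)) g hg
    have hg'' : g' ≫ (FEt.puncturedSpec P).ι = V' ↘ Spec (CommRingCat.of P) := hg'
    have hH : Subsingleton (Coh.HH V' (Coh.structureModule V') (n - 1)) := by
      obtain ⟨b⟩ := InjSum.bcT (A := A) (B := P) V V' (pullback.fst _ q) (IsPullback.of_hasPullback _ _) (n - 1)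
      haveI := hv (n - 1) (by
        rw [show n - 1 + 1 = n by omega]
        exact hdn)
      exact b.symm.toEquiv.subsingleton
    obtain ⟨N, hN⟩ := exists_pow hn x
      (fun i => isAffineOpen_basicOpen (V' ↘ Spec (CommRingCat.of P)) g' hg'' _ (hxm i))
      (exists_mem_basicOpen (V' ↘ Spec (CommRingCat.of P)) g' hg'' x hspan'.ge) hH
    have hD : ∀ j, ∃ D : Coh.HH V' (Coh.structureModule V') 0 →+ Coh.HH V' (Coh.structureModule V') 0,
        ∀ (a : P) (m : Coh.HH V' (Coh.structureModule V') 0), D (a • m) = θ j a • m + a • D m := fun j =>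
      InjDer.exists_derivation (θ j : P →+ P) (fun a b => by
        change θ j (a * b) = _
        rw [Derivation.leibniz, smul_eq_mul, smul_eq_mul, mul_comm b]
        rfl) V' 0
    choose D hD using hD
    have hinv : ∀ n : ℕ, IsUnit ((n + 1 : ℕ) : P) := by
      intro n
      have h1 : IsUnit (((n + 1 : ℕ) : k)) := (Nat.cast_ne_zero.mpr (Nat.succ_ne_zero n)).isUnit
      have h2 := h1.map (algebraMap k P)
      rwa [map_natCast] at h2
    have hall : ∀ y : Coh.HH V' (Coh.structureModule V') 0,
        y ∈ (IsLocalRing.maximalIdeal P) • (⊤ : Submodule P (Coh.HH V' (Coh.structureModule V') 0)) := by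
      intro y
      rw [← hspan']
      exact PowDer.main x (fun i => (θ i : P →+ P)) (fun i a b => by
        change θ i (a * b) = _
        rw [Derivation.leibniz, smul_eq_mul, smul_eq_mul, mul_comm b]
        rfl) hθ D hD hinv N y (hN y)
    obtain ⟨b⟩ := InjSum.bcT (A := A) (B := P) V V' (pullback.fst _ q) (IsPullback.of_hasPullback _ _) 0
    refine mem_of_tensor (P := P) hmax _ (fun z => ?_) _
    have h1 := Submodule.mem_map_of_mem (f := b.symm.toLinearMap) (hall (b z))
    rw [Submodule.map_smul''] at h1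
    have h2 := (Submodule.smul_mono le_rfl le_top : IsLocalRing.maximalIdeal P •
      Submodule.map b.symm.toLinearMap ⊤ ≤ IsLocalRing.maximalIdeal P • ⊤) h1
    have h3 : b.symm.toLinearMap (b z) = z := b.symm_apply_apply z
    rwa [h3] at h2

end K154.PunctAff
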