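import Groth.Agent.Pi1.K154.Deg
import Groth.Agent.Pi1.H384.SplitCover

/-! A finite étale cover of degree `n` is split by one of degree `n!`. -/

set_option autoImplicit false
universe u
open CategoryTheory CategoryTheory.Limits AlgebraicGeometry Opposite

namespace K154.SplitDeg

open K154.Deg

/-- `σ` is a complete family of `n` distinct points of `Y` with values in `T`. -/
def Compl {n : ℕ} {T Y S : Scheme.{u}} (y : Y ⟶ S) (t : T ⟶ S) (σ : Fin n → (T ⟶ Y)) : Prop :=
  (∀ i, σ i ≫ y = t) ∧ ∀ (Ω : Type u) [Field Ω] [IsAlgClosed Ω] (ξ : Spec (CommRingCat.of Ω) ⟶ T),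
    (∀ i j, ξ ≫ σ i = ξ ≫ σ j → i = j) ∧
    (∀ w : Spec (CommRingCat.of Ω) ⟶ Y, w ≫ y = ξ ≫ t → ∃ i, ξ ≫ σ i = w)

section step

variable {Y S : Scheme.{u}} (y : Y ⟶ S) [IsFinite y] [Etale y]

/-- the complement of the diagonal -/
noncomputable def W : (pullback y y).Opens :=
  ⟨(Set.range (pullback.diagonal y))ᶜ, (pullback.diagonal y).isClosedEmbedding.isClosed_range.isOpen_compl⟩

theorem isClosed_W : IsClosed (W y : Set ↥(pullback y y)) := by
  change IsClosed (Set.range (pullback.diagonal y))ᶜ
  exact ((pullback.diagonal y).isOpenEmbedding.isOpen_range).isClosed_compl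

instance isClosedImmersion_W : IsClosedImmersion (W y).ι :=
  IsClosedImmersion.of_isPreimmersion _ (by simpa using isClosed_W y)

variable {Ω : Type u} [Field Ω]

theorem eq_diag (z : Spec (CommRingCat.of Ω) ⟶ pullback y y) {x : Spec (CommRingCat.of Ω)}
    (hz : z x ∈ Set.range (pullback.diagonal y)) :
    z = (z ≫ pullback.snd y y) ≫ pullback.diagonal y := by
  have hr : Set.range z ⊆ Set.range (pullback.diagonal y) := by
    rintro _ ⟨x', rfl⟩
    have : x' = x := Subsingleton.elim _ _
    rw [this]; exact hz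
  have h1 : IsOpenImmersion.lift (pullback.diagonal y) z hr ≫ pullback.diagonal y = z :=
    IsOpenImmersion.lift_fac _ _ _
  have h2 : z ≫ pullback.snd y y = IsOpenImmersion.lift (pullback.diagonal y) z hr := by
    conv_lhs => rw [← h1]
    rw [Category.assoc, pullback.diagonal_snd, Category.comp_id]
  rw [h2, h1]

theorem exists_lift_W (z : Spec (CommRingCat.of Ω) ⟶ pullback y y) {x : Spec (CommRingCat.of Ω)}
    (hz : z x ∉ Set.range (pullback.diagonal y)) :
    ∃ z' : Spec (CommRingCat.of Ω) ⟶ W y, z' ≫ (W y).ι = z := by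
  have hr : Set.range z ⊆ Set.range (W y).ι := by
    rintro _ ⟨x', rfl⟩
    have : x' = x := Subsingleton.elim _ _
    rw [this, Scheme.Opens.range_ι]
    exact hz
  exact ⟨IsOpenImmersion.lift (W y).ι z hr, IsOpenImmersion.lift_fac _ _ _⟩

theorem comp_ι_ne (z' : Spec (CommRingCat.of Ω) ⟶ W y) (a : Spec (CommRingCat.of Ω) ⟶ Y) :
    z' ≫ (W y).ι ≠ a ≫ pullback.diagonal y := by
  intro h
  have h1 := congrArg (fun q => q default) h
  simp only [Scheme.Hom.comp_apply] at h1
  have h2 : (W y).ι (z' default) ∈ (W y : Set ↥(pullback y y)) := (z' default).2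
  exact h2 ⟨_, h1.symm⟩

/-- the rest of the fibre -/
noncomputable def y₂ : (W y : Scheme.{u}) ⟶ Y := (W y).ι ≫ pullback.snd y y

instance : IsFinite (y₂ y) := inferInstanceAs (IsFinite ((W y).ι ≫ pullback.snd y y))
instance : Etale (y₂ y) := inferInstanceAs (Etale ((W y).ι ≫ pullback.snd y y))

theorem card_option [IsAlgClosed Ω] (η : Spec (CommRingCat.of Ω) ⟶ Y) :
    Nat.card (Lift (pullback.snd y y) η) = Nat.card (Lift (y₂ y) η) + 1 := by
  have := finite_lifts (y₂ y) Ω η
  rw [← Finite.card_option]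
  symm
  refine Nat.card_congr (Equiv.ofBijective (fun o : Option (Lift (y₂ y) η) =>
    (o.elim ⟨η ≫ pullback.diagonal y, by rw [Category.assoc, pullback.diagonal_snd, Category.comp_id]⟩
      (fun t => ⟨t.1 ≫ (W y).ι, by rw [Category.assoc]; exact t.2⟩) : Lift (pullback.snd y y) η)) ⟨?_, ?_⟩)
  · rintro (_ | a) (_ | b) h
    · rfl
    · exact absurd (congrArg Subtype.val h).symm (comp_ι_ne y b.1 η)
    · exact absurd (congrArg Subtype.val h) (comp_ι_ne y a.1 η)
    · have h1 : a.1 ≫ (W y).ι = b.1 ≫ (W y).ι := congrArg Subtype.val h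
      rw [cancel_mono] at h1
      exact congrArg some (Subtype.ext h1)
  · rintro ⟨z, hz⟩
    by_cases hd : z default ∈ Set.range (pullback.diagonal y)
    · refine ⟨none, Subtype.ext ?_⟩
      change η ≫ pullback.diagonal y = z
      rw [eq_diag y z hd, hz]
    · obtain ⟨z', rfl⟩ := exists_lift_W y z hd
      exact ⟨some ⟨z', by rw [← hz, Category.assoc]; rfl⟩, rfl⟩

theorem finrank_y₂ (n : ℕ) (h : ∀ s, y.finrank s = n + 1) (s : Y) : (y₂ y).finrank s = n := by
  refine finrank_eq (y₂ y) n (fun Ω _ _ η => ?_) s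
  have h1 := card_option y η
  rw [card_lifts_of_finrank (pullback.snd y y) (n + 1) (fun s => by
    rw [Scheme.Hom.finrank_pullback_snd, h])] at h1
  omega

end step

theorem exists_T (n : ℕ) : ∀ {Y S : Scheme.{u}} (y : Y ⟶ S) [IsFinite y] [Etale y] (_ : ∀ s, y.finrank s = n),
    ∃ (T : Scheme.{u}) (t : T ⟶ S) (_ : IsFinite t) (_ : Etale t) (σ : Fin n → (T ⟶ Y)),
      (∀ s, t.finrank s = n.factorial) ∧ Compl y t σ := by
  induction n with
  | zero =>
    intro Y S y _ _ h
    refine ⟨S, 𝟙 S, inferInstance, inferInstance, Fin.elim0, ?_, ?_, ?_⟩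
    · intro s
      rw [Scheme.Hom.finrank_eq_one_of_isIso]
      rfl
    · exact fun i => i.elim0
    · intro Ω _ _ ξ
      refine ⟨fun i => i.elim0, fun w hw => ?_⟩
      have h1 := card_lifts_of_finrank y 0 h Ω (ξ ≫ 𝟙 S)
      have := finite_lifts y Ω (ξ ≫ 𝟙 S)
      rw [Finite.card_eq_zero_iff] at h1
      exact (h1.false ⟨w, hw⟩).elim
  | succ n ih =>
    intro Y S y _ _ h
    obtain ⟨T, t, ht1, ht2, σ, hr, hσ, hc⟩ := ih (y₂ y) (finrank_y₂ y n h)
    have hσ' : ∀ i, σ i ≫ (W y).ι ≫ pullback.snd y y = t := hσ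
    refine ⟨T, t ≫ y, inferInstance, inferInstance,
      Fin.cons t (fun i => σ i ≫ (W y).ι ≫ pullback.fst y y), ?_, ?_, ?_⟩
    · intro s
      rw [Groth.Agent.Etdl.H427.RankComp.finrank_comp t y _ hr, h, Nat.factorial_succ, mul_comm]
    · intro i
      refine Fin.cases ?_ (fun i => ?_) i
      · rfl
      · rw [Fin.cons_succ, Category.assoc, Category.assoc, pullback.condition, ← hσ' i]
        simp only [Category.assoc]
    · intro Ω _ _ ξ
      obtain ⟨hinj, hsurj⟩ := hc Ω ξ
      have hne : ∀ i, ξ ≫ t ≠ ξ ≫ σ i ≫ (W y).ι ≫ pullback.fst y y := by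
        intro i hi
        refine comp_ι_ne y (ξ ≫ σ i) (ξ ≫ t) ?_
        apply pullback.hom_ext
        · simp only [Category.assoc, pullback.diagonal_fst, Category.comp_id]
          exact hi.symm
        · simp only [Category.assoc, pullback.diagonal_snd, Category.comp_id, hσ']
      refine ⟨?_, ?_⟩
      · intro i j
        refine Fin.cases ?_ (fun i => ?_) i <;> refine Fin.cases ?_ (fun j => ?_) j
        · intro _; rfl
        · intro hij
          exact absurd hij (hne j)
        · intro hij
          exact absurd hij.symm (hne i)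
        · intro hij
          rw [Fin.cons_succ, Fin.cons_succ] at hij
          have h1 : (ξ ≫ σ i) ≫ (W y).ι = (ξ ≫ σ j) ≫ (W y).ι := by
            apply pullback.hom_ext
            · simpa only [Category.assoc] using hij
            · simp only [Category.assoc, hσ']
          rw [cancel_mono] at h1
          rw [hinj i j h1]
      · intro w hw
        let z : Spec (CommRingCat.of Ω) ⟶ pullback y y := pullback.lift w (ξ ≫ t) (by
          rw [hw, Category.assoc])
        by_cases hd : z default ∈ Set.range (pullback.diagonal y)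
        · refine ⟨0, ?_⟩
          rw [Fin.cons_zero]
          have h1 := congrArg (fun q => q ≫ pullback.fst y y) (eq_diag y z hd)
          simp only [z, pullback.lift_fst, pullback.lift_snd, Category.assoc, pullback.diagonal_fst,
            Category.comp_id] at h1
          exact h1.symm
        · obtain ⟨z', hz'⟩ := exists_lift_W y z hd
          obtain ⟨i, hi⟩ := hsurj z' (by
            change z' ≫ (W y).ι ≫ pullback.snd y y = _
            rw [← Category.assoc, hz']
            exact pullback.lift_snd _ _ _)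
          refine ⟨i.succ, ?_⟩
          rw [Fin.cons_succ, ← Category.assoc, hi, ← Category.assoc, hz']
          exact pullback.lift_fst _ _ _

open Groth.Agent.Pi1.H384.SplitCover

theorem isSplit_of_compl {n : ℕ} {S T : Scheme.{u}} (Y : FEt.Cat S) (t : T ⟶ S) (σ : Fin n → (T ⟶ Y.left))
    (h : Compl Y.hom t σ) : Pi1.IsSplit ((FEt.restrict t).obj Y) := by
  obtain ⟨hσ, hc⟩ := h
  have i1 : IsFinite Y.hom := Y.prop.1
  have i2 : Etale Y.hom := Y.prop.2
  let ι : Type u := ULift.{u} (Fin n)
  let φ : (∐ fun _ : ι => T) ⟶ pullback Y.hom t :=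
    Sigma.desc (fun i : ι => pullback.lift (σ i.down) (𝟙 T) ((hσ i.down).trans (Category.id_comp _).symm))
  have hφι : ∀ i, Sigma.ι (fun _ : ι => T) i ≫ φ =
      pullback.lift (σ i.down) (𝟙 T) ((hσ i.down).trans (Category.id_comp _).symm) :=
    fun i => Sigma.ι_desc _ _
  have hφs : φ ≫ pullback.snd Y.hom t = Sigma.desc (fun _ : ι => 𝟙 T) := by
    refine Sigma.hom_ext _ _ fun i => ?_
    rw [← Category.assoc, hφι, pullback.lift_snd, Sigma.ι_desc]
  have hp := (trivialObj T ι).prop
  have hφp : FEt.prop φ := by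
    refine MorphismProperty.of_postcomp (W := FEt.prop) (W' := FEt.prop) φ (pullback.snd Y.hom t)
      ⟨inferInstance, inferInstance⟩ ?_
    rw [hφs]
    exact hp
  have hφ1 : IsFinite φ := hφp.1
  have hφ2 : Etale φ := hφp.2
  have hiso : IsIso φ := by
    apply isIso_of_unique_lift
    intro Ω _ _ η
    obtain ⟨hinj, hsurj⟩ := hc Ω (η ≫ pullback.snd Y.hom t)
    obtain ⟨i, hi⟩ := hsurj (η ≫ pullback.fst Y.hom t) (by
      rw [Category.assoc, pullback.condition, Category.assoc])
    have key : ∀ j : ι, ((η ≫ pullback.snd Y.hom t) ≫ Sigma.ι (fun _ : ι => T) j) ≫ φ =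
        pullback.lift ((η ≫ pullback.snd Y.hom t) ≫ σ j.down) (η ≫ pullback.snd Y.hom t)
          (by rw [Category.assoc, hσ]) := by
      intro j
      rw [Category.assoc, hφι]
      apply pullback.hom_ext
      · rw [Category.assoc, pullback.lift_fst, pullback.lift_fst]
      · rw [Category.assoc, pullback.lift_snd, pullback.lift_snd, Category.comp_id]
    refine ⟨(η ≫ pullback.snd Y.hom t) ≫ Sigma.ι (fun _ : ι => T) ⟨i⟩, ?_, ?_⟩
    · change _ ≫ φ = η
      rw [key]
      apply pullback.hom_ext
      · rw [pullback.lift_fst]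
        exact hi
      · rw [pullback.lift_snd]
    · intro u hu
      obtain ⟨j, hj⟩ := exists_sheet (η ≫ pullback.snd Y.hom t) u (by
        rw [← hφs, ← Category.assoc, hu])
      subst hj
      rw [key] at hu
      have h1 := congrArg (fun q => q ≫ pullback.fst Y.hom t) hu
      simp only [pullback.lift_fst] at h1
      have h2 : (⟨i⟩ : ι) = j := by
        have := hinj i j.down (hi.trans h1.symm)
        exact congrArg ULift.up this
      rw [h2]
  refine ⟨ι, inferInstance, (asIso φ).symm, fun i => ?_⟩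
  change Sigma.ι (fun _ : ι => T) i ≫ φ ≫ pullback.snd Y.hom t = 𝟙 T
  rw [hφs, Sigma.ι_desc]

end K154.SplitDeg
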